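import Cfsg.Agent.H614.GLn.Defs
import Cfsg.Agent.S2580

/-!
# The Hall product on `Fam F` is commutative (S4536, G1; helper941)

`(V, T) ≅ (V*, T*)` (S2580), and `W ↦ W^⊥` interchanges stable subspaces and quotients.
-/

set_option autoImplicit false

open Polynomial

namespace Cfsg.Agent.H941.GLn

open Cfsg.Agent.H614.GLn Cfsg.Agent.H614.GLn.Fam

universe u

variable {F : Type u} [Field F] {V : Type u} [AddCommGroup V] [Module F V]

/-- an endomorphism is similar to its transpose -/
theorem exists_dual_equiv [Module.Finite F V] (T : V →ₗ[F] V) :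
    ∃ e : V ≃ₗ[F] Module.Dual F V, ∀ v, T.dualMap (e v) = e (T v) := by
  have hfin : Module.Finite F (Module.AEval' T) := inferInstance
  have htor : Module.IsTorsion F[X] (Module.AEval' T) := Module.AEval.isTorsion_of_finiteDimensional F V T
  obtain ⟨B, hB1, hB2⟩ := Cfsg.Agent.S2580.exists_form_module (Module.AEval' T) htor
  let o : V ≃ₗ[F] Module.AEval' T := Module.AEval'.of T
  let B' : V →ₗ[F] V →ₗ[F] F := B.compl₁₂ o.toLinearMap o.toLinearMap
  have hB'1 : LinearMap.ker B' = ⊥ := by
    rw [LinearMap.ker_eq_bot']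
    intro x hx
    have : o x = 0 := by
      apply hB1
      intro y
      have := LinearMap.congr_fun hx (o.symm y)
      simpa [B'] using this
    exact (LinearEquiv.map_eq_zero_iff o).1 this
  have hB'2 : ∀ x y, B' (T x) y = B' x (T y) := by
    intro x y
    have h := hB2 (o x) (o y) X
    have h1 : ∀ z, (X : F[X]) • o z = o (T z) := fun z => Module.AEval'.X_smul_of T z
    rw [h1, h1] at h
    simpa [B'] using h
  let e : V ≃ₗ[F] Module.Dual F V := LinearEquiv.ofInjectiveOfFinrankEq B' (LinearMap.ker_eq_bot.1 hB'1)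
    (Subspace.dual_finrank_eq).symm
  refine ⟨e, fun v => ?_⟩
  apply LinearMap.ext
  intro y
  have h1 : ∀ x, e x = B' x := fun x => rfl
  rw [LinearMap.dualMap_apply, h1, h1, hB'2]

theorem fn_dual [Module.Finite F V] (f : Fam F) (T : V →ₗ[F] V) : f.fn (Module.Dual F V) T.dualMap = f.fn V T := by
  obtain ⟨e, he⟩ := exists_dual_equiv T
  exact f.conj' e he

theorem dualAnnihilator_stable_iff [Module.Finite F V] (T : V →ₗ[F] V) (W : Submodule F V) :
    W.dualAnnihilator ≤ W.dualAnnihilator.comap T.dualMap ↔ W ≤ W.comap T := by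
  constructor
  · intro h w hw
    rw [Submodule.mem_comap, ← Subspace.dualAnnihilator_dualCoannihilator_eq (W := W),
      Submodule.mem_dualCoannihilator]
    intro φ hφ
    exact (Submodule.mem_dualAnnihilator _).1 (h hφ) w hw
  · intro h φ hφ
    rw [Submodule.mem_comap, Submodule.mem_dualAnnihilator]
    intro w hw
    exact (Submodule.mem_dualAnnihilator _).1 hφ _ (h hw)

theorem term_dual [Module.Finite F V] (f g : Fam F) (T : V →ₗ[F] V) (W : Submodule F V) :
    f.term g (Module.Dual F V) T.dualMap W.dualAnnihilator = g.term f V T W := by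
  by_cases h : W ≤ W.comap T
  · rw [term_of h, term_of ((dualAnnihilator_stable_iff T W).2 h), mul_comm]
    congr 1
    · refine Eq.trans (g.conj' (Submodule.dualQuotEquivDualAnnihilator W) fun φ => ?_) (fn_dual g (W.mapQ W T h))
      apply Subtype.ext
      apply LinearMap.ext
      intro v
      rfl
    · refine Eq.trans (f.conj' (Subspace.quotAnnihilatorEquiv W) fun φ => ?_).symm (fn_dual f (T.restrict h))
      obtain ⟨φ, rfl⟩ := W.dualAnnihilator.mkQ_surjective φ
      apply LinearMap.ext
      intro v
      rfl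
  · rw [term_of_not h, term_of_not (fun h' => h ((dualAnnihilator_stable_iff T W).1 h'))]

/-- **The Hall product is commutative.** -/
theorem mul_comm' (f g : Fam F) : f * g = g * f := by
  ext V _ _ _ T
  have : Module.Finite F V := inferInstance
  rw [← fn_dual (f * g) T, mul_fn, mul_fn]
  rw [← finsum_comp_equiv ((Subspace.orderIsoFiniteDimensional (K := F) (V := V)).toEquiv.trans OrderDual.ofDual)]
  exact finsum_congr fun W => term_dual f g T W

end Cfsg.Agent.H941.GLn
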