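import Cfsg.Agent.H614.GLn.Basic
import Cfsg.Agent.H941.GLn.Comm

/-!
# `Fam F` is a commutative `ℂ`-algebra; virtual characters (S4536, G1 and G2; helper941)

* `CommRing (Fam F)`, `Algebra ℂ (Fam F)`.
* `VCle n f`: the members of dimension `≤ n` are generalized characters; closed under sums and products.
  `IsVC f ↔ ∀ n, VCle n f`.
-/

set_option autoImplicit false

open Polynomial

namespace Cfsg.Agent.H941.GLn

open Cfsg.Agent.H614.GLn Cfsg.Agent.H614.GLn.Fam Cfsg.Agent.H139.Cusp

universe u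

variable {F : Type u} [Field F]

noncomputable instance instCommRing : CommRing (Fam F) where
  __ := (inferInstance : AddCommGroup (Fam F))
  mul_assoc := mul_assoc'
  one_mul := one_mul'
  mul_one := mul_one'
  left_distrib := mul_add'
  right_distrib := add_mul'
  zero_mul f := by
    have h := smul_mul' (0 : Fam F) f 0
    rwa [zero_smul, zero_smul] at h
  mul_zero f := by
    have h := mul_smul' f (0 : Fam F) 0
    rwa [zero_smul, zero_smul] at h
  mul_comm := mul_comm'

noncomputable instance instAlgebra : Algebra ℂ (Fam F) :=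
  Algebra.ofModule (fun c f g => Fam.smul_mul' f g c) fun c f g => Fam.mul_smul' f g c

/-- evaluation as a linear map -/
noncomputable def ev (V : Type u) [AddCommGroup V] [Module F V] (T : V →ₗ[F] V) : Fam F →ₗ[ℂ] ℂ where
  toFun f := f.fn V T
  map_add' f g := add_fn f g V T
  map_smul' c f := smul_fn c f V T

theorem ev_apply (V : Type u) [AddCommGroup V] [Module F V] (T : V →ₗ[F] V) (f : Fam F) : ev V T f = f.fn V T := rfl

theorem sub_fn (f g : Fam F) (V : Type u) [AddCommGroup V] [Module F V] (T : V →ₗ[F] V) :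
    (f - g).fn V T = f.fn V T - g.fn V T := map_sub (ev V T) f g

theorem sum_fn {ι : Type*} (s : Finset ι) (f : ι → Fam F) (V : Type u) [AddCommGroup V] [Module F V] (T : V →ₗ[F] V) :
    (∑ i ∈ s, f i).fn V T = ∑ i ∈ s, (f i).fn V T := map_sum (ev V T) f s

theorem nsmul_fn (n : ℕ) (f : Fam F) (V : Type u) [AddCommGroup V] [Module F V] (T : V →ₗ[F] V) :
    (n • f).fn V T = n * f.fn V T := by
  rw [← ev_apply, map_nsmul, ev_apply, nsmul_eq_mul]

theorem zsmul_fn (n : ℤ) (f : Fam F) (V : Type u) [AddCommGroup V] [Module F V] (T : V →ₗ[F] V) :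
    (n • f).fn V T = n * f.fn V T := by
  rw [← ev_apply, map_zsmul, ev_apply, zsmul_eq_mul]

/-! ### virtual characters -/

/-- the members of dimension at most `n` are generalized characters -/
def VCle (n : ℕ) (f : Fam F) : Prop := ∀ (V : Type u) [AddCommGroup V] [Module F V] [Finite V],
  Module.finrank F V ≤ n → IsGeneralizedCharacter (V →ₗ[F] V)ˣ (fun g => f.fn V (g : V →ₗ[F] V))

theorem isVC_iff {f : Fam F} : IsVC f ↔ ∀ n, VCle n f :=
  ⟨fun h n V _ _ _ _ => h V, fun h V _ _ _ => h _ V le_rfl⟩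

namespace VCle

variable {n : ℕ} {f g : Fam F}

theorem mono {m n : ℕ} {f : Fam F} (h : VCle n f) (hmn : m ≤ n) : VCle m f := fun V _ _ _ hV => h V (hV.trans hmn)

theorem of_eq (h : VCle n f) (hg : ∀ (V : Type u) [AddCommGroup V] [Module F V] [Finite V] (T : (V →ₗ[F] V)ˣ),
    Module.finrank F V ≤ n → g.fn V (T : V →ₗ[F] V) = f.fn V (T : V →ₗ[F] V)) : VCle n g := fun V _ _ _ hV =>
  isGeneralizedCharacter_congr (h V hV) fun T => hg V T hV

theorem zero : VCle n (0 : Fam F) := fun _ _ _ _ _ =>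
  isGeneralizedCharacter_congr Characters.Brauer.isGeneralizedCharacter_zero fun _ => rfl

theorem add (hf : VCle n f) (hg : VCle n g) : VCle n (f + g) := fun V _ _ _ hV =>
  isGeneralizedCharacter_congr (Characters.Brauer.isGeneralizedCharacter_add (hf V hV) (hg V hV)) fun _ => rfl

theorem neg (hf : VCle n f) : VCle n (-f) := fun V _ _ _ hV =>
  isGeneralizedCharacter_congr (Characters.Brauer.isGeneralizedCharacter_neg (hf V hV)) fun _ => rfl

theorem sub (hf : VCle n f) (hg : VCle n g) : VCle n (f - g) := by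
  rw [sub_eq_add_neg]
  exact hf.add hg.neg

theorem sum {ι : Type*} {s : Finset ι} {f : ι → Fam F} (h : ∀ i ∈ s, VCle n (f i)) : VCle n (∑ i ∈ s, f i) := by
  classical
  induction s using Finset.induction_on with
  | empty => rw [Finset.sum_empty]; exact zero
  | insert a s ha ih =>
    rw [Finset.sum_insert ha]
    exact (h a (Finset.mem_insert_self _ _)).add (ih fun i hi => h i (Finset.mem_insert_of_mem hi))

theorem nsmul (k : ℕ) (hf : VCle n f) : VCle n (k • f) := by
  induction k with
  | zero => rw [zero_smul]; exact zero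
  | succ k ih => rw [succ_nsmul]; exact ih.add hf

theorem zsmul (k : ℤ) (hf : VCle n f) : VCle n (k • f) := by
  obtain ⟨m, rfl | rfl⟩ := k.eq_nat_or_neg
  · rw [natCast_zsmul]; exact hf.nsmul m
  · rw [neg_smul, natCast_zsmul]; exact (hf.nsmul m).neg

theorem isGeneralizedCharacter_one {G : Type*} [Group G] : IsGeneralizedCharacter G (fun _ => (1 : ℂ)) :=
  Characters.Brauer.isGeneralizedCharacter_of_isCharacter (Characters.Core.isIrr_isCharacter
    Characters.Core.isIrr_one)

theorem one : VCle n (1 : Fam F) := fun V _ _ _ _ => by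
  by_cases h : Subsingleton V
  · exact isGeneralizedCharacter_congr isGeneralizedCharacter_one fun T => one_fn V (T : V →ₗ[F] V)
  · exact isGeneralizedCharacter_congr Characters.Brauer.isGeneralizedCharacter_zero fun T =>
      one_fn' V h (T : V →ₗ[F] V)

/-- **Virtual characters are closed under the Hall product** (Harish-Chandra induction). -/
theorem mul (hf : VCle n f) (hg : VCle n g) : VCle n (f * g) := by
  intro V _ _ _ hV
  classical
  have : Finite (V →ₗ[F] V) := DFunLike.finite _
  have : Finite (V →ₗ[F] V)ˣ := inferInstance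
  have : Fintype (Submodule F V) := Fintype.ofFinite _
  let act : MulAction (V →ₗ[F] V)ˣ (Submodule F V) :=
    { smul := fun g W => W.map (g : V →ₗ[F] V)
      one_smul := fun W => Submodule.map_id W
      mul_smul := fun g h W => Submodule.map_comp (h : V →ₗ[F] V) (g : V →ₗ[F] V) W }
  have hsm : ∀ (g : (V →ₗ[F] V)ˣ) (W : Submodule F V), g • W = W.map (g : V →ₗ[F] V) := fun _ _ => rfl
  have hinv : ∀ (g : (V →ₗ[F] V)ˣ) (v : V), (g : V →ₗ[F] V) (((g⁻¹ : (V →ₗ[F] V)ˣ) : V →ₗ[F] V) v) = v := by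
    intro g v
    rw [← Module.End.mul_apply, ← Units.val_mul, mul_inv_cancel]
    rfl
  have hinv' : ∀ (g : (V →ₗ[F] V)ˣ) (v : V), ((g⁻¹ : (V →ₗ[F] V)ˣ) : V →ₗ[F] V) ((g : V →ₗ[F] V) v) = v := by
    intro g v
    rw [← Module.End.mul_apply, ← Units.val_mul, inv_mul_cancel]
    rfl
  have hinj : ∀ g : (V →ₗ[F] V)ˣ, Function.Injective (g : V →ₗ[F] V) := by
    intro g v v' h
    rw [← hinv' g v, h, hinv' g]
  let eqv : (V →ₗ[F] V)ˣ → (V ≃ₗ[F] V) := fun x => LinearEquiv.ofLinearMap (x : V →ₗ[F] V)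
    ((x⁻¹ : (V →ₗ[F] V)ˣ) : V →ₗ[F] V) (LinearMap.ext fun v => hinv x v) (LinearMap.ext fun v => hinv' x v)
  refine isGeneralizedCharacter_congr (isGeneralizedCharacter_points
    (fun (T : (V →ₗ[F] V)ˣ) (W : Submodule F V) => f.term g V (T : V →ₗ[F] V) W) ?_ ?_ ?_) fun T => mul_fn' f g V _
  · intro x T W
    exact term_conj f g (eqv x) (T := (T : V →ₗ[F] V)) (T' := ((x * T * x⁻¹ : (V →ₗ[F] V)ˣ) : V →ₗ[F] V))
      (fun v => by
        show ((x * T * x⁻¹ : (V →ₗ[F] V)ˣ) : V →ₗ[F] V) ((x : V →ₗ[F] V) v) = (x : V →ₗ[F] V) ((T : V →ₗ[F] V) v)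
        rw [Units.val_mul, Units.val_mul, Module.End.mul_apply, Module.End.mul_apply, hinv']) W
  · intro T W hW
    refine term_of_not fun h => hW ?_
    rw [hsm]
    apply Submodule.eq_of_le_of_finrank_eq (Submodule.map_le_iff_le_comap.2 h)
    exact (Submodule.equivMapOfInjective (T : V →ₗ[F] V) (hinj T) W).finrank_eq.symm
  · intro W
    have hst : ∀ h : MulAction.stabilizer (V →ₗ[F] V)ˣ W, W ≤ W.comap ((h : (V →ₗ[F] V)ˣ) : V →ₗ[F] V) := by
      intro h x hx
      have h1 : ((h : (V →ₗ[F] V)ˣ)) • W = W := h.2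
      rw [hsm] at h1
      have h2 := Submodule.mem_map_of_mem (f := ((h : (V →ₗ[F] V)ˣ) : V →ₗ[F] V)) hx
      rwa [h1] at h2
    let res : MulAction.stabilizer (V →ₗ[F] V)ˣ W →* (W →ₗ[F] W) :=
      { toFun := fun h => ((h : (V →ₗ[F] V)ˣ) : V →ₗ[F] V).restrict (hst h)
        map_one' := rfl
        map_mul' := fun _ _ => rfl }
    let quo : MulAction.stabilizer (V →ₗ[F] V)ˣ W →* ((V ⧸ W) →ₗ[F] (V ⧸ W)) :=
      { toFun := fun h => W.mapQ W ((h : (V →ₗ[F] V)ˣ) : V →ₗ[F] V) (hst h)
        map_one' := by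
          apply LinearMap.ext
          intro v
          obtain ⟨v, rfl⟩ := W.mkQ_surjective v
          rfl
        map_mul' := fun x y => by
          apply LinearMap.ext
          intro v
          obtain ⟨v, rfl⟩ := W.mkQ_surjective v
          rfl }
    have hfq : Finite (V ⧸ W) := Finite.of_surjective W.mkQ W.mkQ_surjective
    have h1 := isGeneralizedCharacter_comp (MonoidHom.toHomUnits quo)
      (hf (V ⧸ W) ((Submodule.finrank_quotient_le W).trans hV))
    have h2 := isGeneralizedCharacter_comp (MonoidHom.toHomUnits res)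
      (hg W ((Submodule.finrank_le W).trans hV))
    refine isGeneralizedCharacter_congr (Characters.Brauer.isGeneralizedCharacter_mul h1 h2) fun h => ?_
    rw [term_of (hst h)]
    rfl

theorem pow (hf : VCle n f) (k : ℕ) : VCle n (f ^ k) := by
  induction k with
  | zero => rw [pow_zero]; exact one
  | succ k ih => rw [pow_succ]; exact ih.mul hf

theorem prod {ι : Type*} {s : Finset ι} {f : ι → Fam F} (h : ∀ i ∈ s, VCle n (f i)) : VCle n (∏ i ∈ s, f i) := by
  classical
  induction s using Finset.induction_on with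
  | empty => rw [Finset.prod_empty]; exact one
  | insert a s ha ih =>
    rw [Finset.prod_insert ha]
    exact (h a (Finset.mem_insert_self _ _)).mul (ih fun i hi => h i (Finset.mem_insert_of_mem hi))

/-- pointwise products -/
theorem pw {B : F[X] → ℂ} (hB : VCle n (grp B)) (hf : VCle n f) : VCle n (pw B f) := fun V _ _ _ hV =>
  isGeneralizedCharacter_congr (Characters.Brauer.isGeneralizedCharacter_mul (hB V hV) (hf V hV)) fun _ => rfl

theorem comp {m : ℕ} (hf : VCle n f) : VCle n (comp m f) := fun V _ _ _ hV => by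
  by_cases h : Module.finrank F V = m
  · exact isGeneralizedCharacter_congr (hf V hV) fun T => by rw [comp_fn, if_pos h]
  · exact isGeneralizedCharacter_congr Characters.Brauer.isGeneralizedCharacter_zero fun T => by
      rw [comp_fn, if_neg h]; rfl

/-- a component needs only its own dimension -/
theorem comp_of {m : ℕ} (h : ∀ (V : Type u) [AddCommGroup V] [Module F V] [Finite V], Module.finrank F V = m →
    IsGeneralizedCharacter (V →ₗ[F] V)ˣ (fun g => f.fn V (g : V →ₗ[F] V))) : VCle n (Cfsg.Agent.H614.GLn.comp m f) :=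
  fun V _ _ _ _ => by
    by_cases hV : Module.finrank F V = m
    · exact isGeneralizedCharacter_congr (h V hV) fun T => by rw [comp_fn, if_pos hV]
    · exact isGeneralizedCharacter_congr Characters.Brauer.isGeneralizedCharacter_zero fun T => by
        rw [comp_fn, if_neg hV]; rfl

/-- the family of the trivial characters -/
theorem grp_one : VCle n (grp (F := F) fun _ => 1) := fun V _ _ _ _ =>
  isGeneralizedCharacter_congr isGeneralizedCharacter_one fun T => grp_fn _ V (T : V →ₗ[F] V)

theorem coeff_ne_zero {V : Type u} [AddCommGroup V] [Module F V] [Finite V] (T : (V →ₗ[F] V)ˣ) :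
    (LinearMap.charpoly (T : V →ₗ[F] V)).coeff 0 ≠ 0 := by
  intro h1
  have h2 : LinearMap.det (T : V →ₗ[F] V) = 0 := by rw [LinearMap.det_eq_sign_charpoly_coeff, h1, mul_zero]
  exact (LinearMap.isUnit_det _ T.isUnit).ne_zero h2

open Classical in
/-- the family of the trivial characters, supported on automorphisms -/
theorem grp_unit : VCle n (grp (F := F) fun p => if p.coeff 0 = 0 then 0 else 1) := fun V _ _ _ _ =>
  isGeneralizedCharacter_congr isGeneralizedCharacter_one fun T => by
    rw [grp_fn, if_neg (coeff_ne_zero T)]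

/-- only the values at automorphisms matter -/
theorem grp_congr {B B' : F[X] → ℂ} (h : ∀ p : F[X], p.Monic → p.coeff 0 ≠ 0 → B p = B' p) (hB : VCle n (grp B)) :
    VCle n (grp B') := fun V _ _ _ hV =>
  isGeneralizedCharacter_congr (hB V hV) fun T => by
    rw [grp_fn, grp_fn, h _ (LinearMap.charpoly_monic _) (coeff_ne_zero T)]

end VCle

section IsVC

variable {f g : Fam F}

theorem IsVC.le (h : IsVC f) (n : ℕ) : VCle n f := isVC_iff.1 h n

theorem isVC_zero : IsVC (0 : Fam F) := isVC_iff.2 fun _ => .zero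

theorem isVC_one : IsVC (1 : Fam F) := isVC_iff.2 fun _ => .one

theorem isVC_add (hf : IsVC f) (hg : IsVC g) : IsVC (f + g) := isVC_iff.2 fun n => (isVC_iff.1 hf n).add (isVC_iff.1 hg n)

theorem isVC_neg (hf : IsVC f) : IsVC (-f) := isVC_iff.2 fun n => (isVC_iff.1 hf n).neg

theorem isVC_sub (hf : IsVC f) (hg : IsVC g) : IsVC (f - g) := isVC_iff.2 fun n => (isVC_iff.1 hf n).sub (isVC_iff.1 hg n)

theorem isVC_mul (hf : IsVC f) (hg : IsVC g) : IsVC (f * g) := isVC_iff.2 fun n => (isVC_iff.1 hf n).mul (isVC_iff.1 hg n)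

theorem isVC_pow (hf : IsVC f) (k : ℕ) : IsVC (f ^ k) := isVC_iff.2 fun n => (isVC_iff.1 hf n).pow k

theorem isVC_zsmul (k : ℤ) (hf : IsVC f) : IsVC (k • f) := isVC_iff.2 fun n => (isVC_iff.1 hf n).zsmul k

theorem isVC_nsmul (k : ℕ) (hf : IsVC f) : IsVC (k • f) := isVC_iff.2 fun n => (isVC_iff.1 hf n).nsmul k

theorem isVC_sum {ι : Type*} {s : Finset ι} {f : ι → Fam F} (h : ∀ i ∈ s, IsVC (f i)) : IsVC (∑ i ∈ s, f i) :=
  isVC_iff.2 fun n => .sum fun i hi => isVC_iff.1 (h i hi) n

theorem isVC_prod {ι : Type*} {s : Finset ι} {f : ι → Fam F} (h : ∀ i ∈ s, IsVC (f i)) : IsVC (∏ i ∈ s, f i) :=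
  isVC_iff.2 fun n => .prod fun i hi => isVC_iff.1 (h i hi) n

theorem isVC_pw {B : F[X] → ℂ} (hB : IsVC (grp B)) (hf : IsVC f) : IsVC (pw B f) :=
  isVC_iff.2 fun n => (isVC_iff.1 hB n).pw (isVC_iff.1 hf n)

theorem isVC_comp {m : ℕ} (hf : IsVC f) : IsVC (comp m f) := isVC_iff.2 fun n => (isVC_iff.1 hf n).comp

open Classical in
theorem isVC_grp_unit : IsVC (grp (F := F) fun p => if p.coeff 0 = 0 then 0 else 1) := isVC_iff.2 fun _ => .grp_unit

theorem isVC_grp_one : IsVC (grp (F := F) fun _ => 1) := isVC_iff.2 fun _ => .grp_one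

end IsVC

/-! ### the primitive class functions -/

section labels

universe w

variable {K : Type w} [Field K] [Algebra F K] (θ : K →*₀ ℂ)

theorem lba_eq_lb {a : ℕ} (ha : a ≠ 0) (h : F[X]) : lba θ a h = lb K (powTheta θ a ha) h := by
  rw [lba, lb]
  congr 1
  refine Multiset.map_congr rfl fun x _ => ?_
  by_cases hx : x = 0
  · rw [if_pos hx, hx, map_zero]
  · rw [if_neg hx]
    rfl

/-- a power of the Brauer lift is a generalized character -/
theorem vcle_grp_lba (hθ : Function.Injective θ) {n : ℕ}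
    (hK : ∀ h : F[X], h.Monic → h.natDegree ≤ n → (h.map (algebraMap F K)).Splits) (a : ℕ) : VCle n (grp (F := F) (lba θ a)) := by
  intro V _ _ _ hV
  by_cases ha : a = 0
  · refine isGeneralizedCharacter_congr ((VCle.grp_one (F := F) (n := n)).nsmul (Module.finrank F V) V hV) fun T => ?_
    have hs := hK _ (LinearMap.charpoly_monic (T : V →ₗ[F] V)) (by rw [LinearMap.charpoly_natDegree]; exact hV)
    rw [nsmul_fn, grp_fn, grp_fn, mul_one, ha, lba]
    have h0 : ∀ x ∈ ((LinearMap.charpoly (T : V →ₗ[F] V)).map (algebraMap F K)).roots, x ≠ 0 := by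
      rintro x hx rfl
      rw [Polynomial.mem_roots', Polynomial.IsRoot.def, Polynomial.eval_map, Polynomial.eval₂_at_zero] at hx
      have h1 : (LinearMap.charpoly (T : V →ₗ[F] V)).coeff 0 = 0 := (map_eq_zero (algebraMap F K)).1 hx.2
      have h2 : LinearMap.det (T : V →ₗ[F] V) = 0 := by
        rw [LinearMap.det_eq_sign_charpoly_coeff, h1, mul_zero]
      exact (LinearMap.isUnit_det _ T.isUnit).ne_zero h2
    rw [Multiset.map_congr rfl fun x hx => by rw [if_neg (h0 x hx), pow_zero], Multiset.map_const', Multiset.sum_replicate,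
      nsmul_eq_mul, mul_one, Polynomial.splits_iff_card_roots.1 hs, Polynomial.natDegree_map, LinearMap.charpoly_natDegree]
  · refine isGeneralizedCharacter_congr (lb_generalized_pow K θ hθ hK ha V hV) fun T => ?_
    rw [grp_fn, lba_eq_lb θ ha]

/-- **the primitive class functions `R_k(θ^a)` are generalized characters** -/
theorem isVC_Rf (hθ : Function.Injective θ) {k : ℕ}
    (hK : ∀ h : F[X], h.Monic → h.natDegree ≤ k → (h.map (algebraMap F K)).Splits) (a : ℕ) : IsVC (Rf (F := F) θ k a) := by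
  refine isVC_iff.2 fun n => VCle.comp_of fun V _ _ _ hV => ?_
  have h1 : ∀ (V : Type u) [AddCommGroup V] [Module F V] [Finite V], Module.finrank F V ≤ k →
      IsGeneralizedCharacter (V →ₗ[F] V)ˣ (fun g => lba θ a (LinearMap.charpoly (g : V →ₗ[F] V))) := by
    intro V _ _ _ hV
    exact isGeneralizedCharacter_congr (vcle_grp_lba θ hθ hK a V hV) fun T => (grp_fn _ V (T : V →ₗ[F] V)).symm
  have h2 := kap_generalized_of (lba (F := F) θ a) (n := k) h1 k le_rfl V hV
  exact isGeneralizedCharacter_congr h2 fun T => kapF_fn _ V (T : V →ₗ[F] V)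

end labels

end Cfsg.Agent.H941.GLn
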