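import Cfsg.Agent.H505.S4536.DC.Main
import Cfsg.Agent.H614.GLn.LabHom

/-!
# S4536 / S4537 (D3) in the standard model: if `Q = 1` modulo `p`, a set of labels closed under the truncation to the
`p`-regular elements and under the truncation to the elements whose order is not divisible by `p ^ 2` contains all
or none of the `p'`-labels of a family (helper941)

* `kill A` : deletion of the variables outside `A`; `resc e` : rescaling of the variables;
* `tau1 Q M p` : truncation to the elements whose order is not divisible by `p ^ 2`;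
* `mem_of_closed` : the statement.

Projected to the `p'`-variables both truncations are diagonal on monomials, with eigenvalues `∏ 1 / N_k` and
`∏ p / N_k` (`N_k` the number of `p`-characters of level `k`); the monomial `∏ P_1(Δ) ^ m_Δ` is determined in its
multidegree by the number of factors, so it spans a joint eigenspace; all its Schur coefficients are nonzero.
-/

set_option autoImplicit false

open scoped ComplexConjugate

namespace Cfsg.Agent.H941.GLn.FamOne

open MvPolynomial Cfsg.Agent.H614 Cfsg.Agent.H577.GLB.Std Cfsg.Agent.H614.GLn Cfsg.Agent.H614.GLn.RSt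
open Cfsg.Agent.H505.S4536.DC (pu pu_spec pu_pu pReg_iff bsz_eq eq_id_of_bsz SS_id map_SS SS_congr om dl dl_rv dl_rv_zero
  dl_tauP_rv card_Eta_ne FM_ones_ne_zero pu_canon)

/-! ### deletion and rescaling of variables -/

section kill

variable {σ : Type*}

open Classical in
/-- deletion of the variables outside `A` -/
noncomputable def kill (A : Set σ) : MvPolynomial σ ℂ →ₐ[ℂ] MvPolynomial σ ℂ := aeval fun v => if v ∈ A then X v else 0

open Classical in
theorem kill_monomial (A : Set σ) (s : σ →₀ ℕ) (a : ℂ) :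
    kill A (monomial s a) = if ∀ v ∈ s.support, v ∈ A then monomial s a else 0 := by
  rw [kill, aeval_monomial, monomial_eq]
  split_ifs with h
  · congr 1
    rw [Finsupp.prod, Finsupp.prod]
    exact Finset.prod_congr rfl fun v hv => by rw [if_pos (h v hv)]
  · push Not at h
    obtain ⟨v, hv, hvA⟩ := h
    rw [Finsupp.prod, Finset.prod_eq_zero hv, mul_zero]
    rw [if_neg hvA, zero_pow (Finsupp.mem_support_iff.1 hv)]

open Classical in
theorem coeff_kill (A : Set σ) (x : MvPolynomial σ ℂ) (s : σ →₀ ℕ) :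
    coeff s (kill A x) = if ∀ v ∈ s.support, v ∈ A then coeff s x else 0 := by
  induction x using MvPolynomial.induction_on' with
  | monomial u a =>
    rw [kill_monomial, coeff_monomial]
    by_cases hu : u = s
    · subst hu
      split_ifs <;> simp_all
    · split_ifs <;> simp [hu]
  | add p q hp hq =>
    rw [map_add, coeff_add, hp, hq, coeff_add]
    split_ifs <;> simp

/-- rescaling of the variables -/
noncomputable def resc (e : σ → ℂ) : MvPolynomial σ ℂ →ₐ[ℂ] MvPolynomial σ ℂ := aeval fun v => e v • X v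

theorem coeff_resc (e : σ → ℂ) (x : MvPolynomial σ ℂ) (s : σ →₀ ℕ) :
    coeff s (resc e x) = (s.prod fun v k => e v ^ k) * coeff s x := by
  classical
  induction x using MvPolynomial.induction_on' with
  | monomial u a =>
    have h1 : resc e (monomial u a) = (u.prod fun v k => e v ^ k) • monomial u a := by
      rw [resc, aeval_monomial, monomial_eq, Algebra.algebraMap_eq_smul_one, ← C_mul', ← C_mul',
        Finsupp.prod, Finsupp.prod, Finsupp.prod, mul_one, map_prod]
      have h2 : ∏ i ∈ u.support, (e i • (X i : MvPolynomial σ ℂ)) ^ u i =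
          (∏ i ∈ u.support, C (e i ^ u i)) * ∏ i ∈ u.support, X i ^ u i := by
        rw [← Finset.prod_mul_distrib]
        refine Finset.prod_congr rfl fun i _ => ?_
        rw [← C_mul', mul_pow, C_pow]
      rw [h2]
      ring
    rw [h1, coeff_smul, coeff_monomial, smul_eq_mul]
    by_cases hu : u = s
    · rw [hu]
    · rw [if_neg hu, mul_zero, mul_zero]
  | add p q hp hq => rw [map_add, coeff_add, hp, hq, coeff_add, mul_add]

end kill

section form

variable {Q : ℤ} {M : ℕ}

theorem form_kill (A : Set (Var M)) (x y : RS M) : form Q M (kill A x) y = form Q M x (kill A y) := by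
  classical
  have h1 : (kill A x).support ⊆ x.support := by
    intro s hs
    rw [mem_support_iff, coeff_kill] at hs
    rw [mem_support_iff]
    intro h
    rw [h, ite_self] at hs
    exact hs rfl
  rw [form_eq Q M h1, form_eq Q M (Finset.Subset.refl x.support)]
  refine Finset.sum_congr rfl fun s _ => ?_
  rw [coeff_kill, coeff_kill]
  split_ifs <;> simp

end form

variable {Q : ℤ} {M : ℕ} [NeZero M] {p : ℕ}

theorem dl_eq (M p : ℕ) [NeZero M] : dl M p = kill {v : Var M | pu M p * v.2 = v.2} := by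
  apply algHom_ext
  intro v
  rw [dl, kill, aeval_X, aeval_X]
  by_cases h : pu M p * v.2 = v.2
  · rw [if_pos h, if_pos (show v ∈ {v : Var M | pu M p * v.2 = v.2} from h)]
  · rw [if_neg h, if_neg (show ¬ v ∈ {v : Var M | pu M p * v.2 = v.2} from h)]

variable (Q M p) in
/-- truncation to the elements whose order is not divisible by `p ^ 2` -/
noncomputable def tau1 : RS M →ₐ[ℂ] RS M :=
  aeval fun v : Var M => ((Eta Q M p v.1).card : ℂ)⁻¹ • ∑ η ∈ Eta Q M p v.1, rv Q M v.1 (v.2 + p * η)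

/-! ### the number of `p`-characters of order `p` -/

theorem mem_Eta' {k : ℕ} {η : ZMod M} : η ∈ Eta Q M p k ↔ TorZ Q M k η ∧ ∃ j : ℕ, (p : ZMod M) ^ j * η = 0 := by
  classical
  rw [Eta, Finset.mem_filter]
  exact ⟨fun h => h.2, fun h => ⟨Finset.mem_univ _, h⟩⟩

open Classical in
/-- the elements killed by `p` -/
theorem card_ptor (hp : p.Prime) (hpM : p ∣ M) :
    (Finset.univ.filter fun η : ZMod M => (p : ZMod M) * η = 0).card = p := by
  obtain ⟨L, hL⟩ := hpM
  have hM0 : 0 < M := Nat.pos_of_ne_zero (NeZero.ne M)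
  have hL0 : 0 < L := Nat.pos_of_ne_zero fun h => by rw [h, mul_zero] at hL; omega
  refine Eq.trans (Eq.symm ?_) (Finset.card_range p)
  refine Finset.card_bij (fun j _ => ((j * L : ℕ) : ZMod M)) ?_ ?_ ?_
  · intro j _
    rw [Finset.mem_filter]
    refine ⟨Finset.mem_univ _, ?_⟩
    rw [← Nat.cast_mul, ZMod.natCast_eq_zero_iff]
    exact ⟨j, by rw [hL]; ring⟩
  · intro a ha b hb hab
    rw [Finset.mem_range] at ha hb
    have hlt : ∀ j, j < p → j * L < M := fun j hj => by rw [hL]; exact Nat.mul_lt_mul_of_pos_right hj hL0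
    have h1 := congrArg ZMod.val hab
    rw [ZMod.val_natCast_of_lt (hlt a ha), ZMod.val_natCast_of_lt (hlt b hb)] at h1
    exact Nat.eq_of_mul_eq_mul_right hL0 h1
  · intro η hη
    have h1 : ((p * η.val : ℕ) : ZMod M) = 0 := by
      push_cast
      rw [ZMod.natCast_zmod_val]
      exact (Finset.mem_filter.1 hη).2
    rw [ZMod.natCast_eq_zero_iff] at h1
    have h1' : L ∣ η.val := by
      apply Nat.dvd_of_mul_dvd_mul_left hp.pos
      rw [← hL]
      exact h1
    obtain ⟨j, hj⟩ := h1'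
    refine ⟨j, ?_, ?_⟩
    · rw [Finset.mem_range]
      have h2 : L * j < L * p := by
        rw [← hj, mul_comm L, ← hL]
        exact ZMod.val_lt η
      exact lt_of_mul_lt_mul_left h2 (Nat.zero_le _)
    · rw [mul_comm, ← hj, ZMod.natCast_zmod_val]

omit [NeZero M] in
theorem torZ_of_ptor (hQp : (Q : ZMod p) = 1) (k : ℕ) {η : ZMod M} (h : (p : ZMod M) * η = 0) : TorZ Q M k η := by
  have h1 : (p : ℤ) ∣ Q ^ k - 1 := by
    rw [← ZMod.intCast_zmod_eq_zero_iff_dvd]
    push_cast
    rw [hQp, one_pow, sub_self]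
  obtain ⟨b, hb⟩ := h1
  have h2 : ((Q : ZMod M) ^ k - 1) = (p : ZMod M) * (b : ZMod M) := by
    have := congrArg (fun z : ℤ => (z : ZMod M)) hb
    push_cast at this
    exact this
  rw [TorZ, h2, mul_right_comm, h, zero_mul]

open Classical in
theorem card_Eta_ptor (hp : p.Prime) (hQp : (Q : ZMod p) = 1) (hpM : p ∣ M) (k : ℕ) :
    ((Eta Q M p k).filter fun η => (p : ZMod M) * η = 0).card = p := by
  refine Eq.trans ?_ (card_ptor (M := M) hp hpM)
  congr 1
  ext η
  rw [Finset.mem_filter, Finset.mem_filter]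
  constructor
  · exact fun h => ⟨Finset.mem_univ _, h.2⟩
  · exact fun h => ⟨mem_Eta'.2 ⟨torZ_of_ptor hQp k h.2, 1, by rw [pow_one]; exact h.2⟩, h.2⟩

/-! ### the truncations on the `p'`-variables -/

variable (Q M p) in
/-- the subalgebra of the `p'`-variables -/
noncomputable def PG : Subalgebra ℂ (RS M) :=
  Algebra.adjoin ℂ {x | ∃ (k : ℕ) (c : ZMod M), 0 < k ∧ TorZ Q M k c ∧ pu M p * c = c ∧ x = rv Q M k c}

omit [NeZero M] in
theorem torZ_mul' {k : ℕ} {c : ZMod M} (a : ZMod M) (h : TorZ Q M k c) : TorZ Q M k (a * c) := by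
  rw [TorZ] at h ⊢
  rw [mul_left_comm, h, mul_zero]

omit [NeZero M] in
theorem torZ_add'' {k : ℕ} {c c' : ZMod M} (h : TorZ Q M k c) (h' : TorZ Q M k c') : TorZ Q M k (c + c') := by
  rw [TorZ, mul_add, h, h', add_zero]

theorem PG_le : PG Q M p ≤ GenR Q M := by
  rw [PG, GenR]
  refine Algebra.adjoin_mono ?_
  rintro _ ⟨k, c, _, _, _, rfl⟩
  exact ⟨(k, c), rfl⟩

theorem dl_of_mem (hQ : IsUnit (Q : ZMod M)) {x : RS M} (hx : x ∈ PG Q M p) : dl M p x = x := by
  induction hx using Algebra.adjoin_induction with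
  | mem x hx =>
    obtain ⟨k, c, hk, hc, hpc, rfl⟩ := hx
    exact dl_rv hQ hk hc hpc
  | algebraMap r => exact (dl M p).commutes r
  | add x y _ _ hx hy => rw [map_add, hx, hy]
  | mul x y _ _ hx hy => rw [map_mul, hx, hy]

theorem om_eq : om Q M p = resc fun v : Var M => ((Eta Q M p v.1).card : ℂ)⁻¹ := rfl

variable (Q M p) in
/-- the eigenvalues of the second truncation -/
noncomputable def e1 (v : Var M) : ℂ := ((Eta Q M p v.1).card : ℂ)⁻¹ * p

theorem dl_tauP_of_mem (hp : p.Prime) (hQ : IsUnit (Q : ZMod M)) {x : RS M} (hx : x ∈ PG Q M p) :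
    dl M p (tauP Q M p x) = resc (fun v : Var M => ((Eta Q M p v.1).card : ℂ)⁻¹) x := by
  induction hx using Algebra.adjoin_induction with
  | mem x hx =>
    obtain ⟨k, c, hk, hc, hpc, rfl⟩ := hx
    rw [dl_tauP_rv hp hQ hk hc hpc, om_eq]
  | algebraMap r => rw [AlgHom.commutes, AlgHom.commutes, AlgHom.commutes]
  | add x y _ _ hx hy => rw [map_add, map_add, map_add, hx, hy]
  | mul x y _ _ hx hy => rw [map_mul, map_mul, map_mul, hx, hy]

theorem dl_tau1_rv (hp : p.Prime) (hQ : IsUnit (Q : ZMod M)) (hQp : (Q : ZMod p) = 1) (hpM : p ∣ M) {k : ℕ}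
    {c : ZMod M} (hk : 0 < k) (hc : TorZ Q M k c) (hpc : pu M p * c = c) :
    dl M p (tau1 Q M p (rv Q M k c)) = resc (e1 Q M p) (rv Q M k c) := by
  classical
  have hcan : pu M p * canon Q M c = canon Q M c := (pu_canon hQ c).2 hpc
  have hTcan : TorZ Q M k (canon Q M c) := by
    obtain ⟨j, hj⟩ := sameZ_canon (Q := Q) c
    rw [hj]
    exact torZ_mul' _ hc
  have h0 : rv Q M k c = X (k, canon Q M c) := by rw [rv, if_pos ⟨hk, hc⟩]
  have h1 : ∀ η ∈ Eta Q M p k, dl M p (rv Q M k (canon Q M c + p * η)) =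
      if (p : ZMod M) * η = 0 then rv Q M k c else 0 := by
    intro η hη
    have hη' := mem_Eta'.1 hη
    split_ifs with h
    · rw [h, add_zero, dl_rv hQ hk hTcan hcan, h0, rv, if_pos ⟨hk, hTcan⟩, canon_canon hQ]
    · refine dl_rv_zero hQ fun h2 => h ?_
      have h3 : pu M p * ((p : ZMod M) * η) = 0 := by
        refine ((pu_spec hp).2.2.1 _).1 ?_
        obtain ⟨j, hj⟩ := hη'.2
        exact ⟨j, by rw [mul_left_comm, hj, mul_zero]⟩
      rw [mul_add, hcan, h3, add_zero] at h2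
      exact left_eq_add.1 h2
  rw [h0, tau1, aeval_X, resc, aeval_X, map_smul, map_sum, Finset.sum_congr rfl h1, ← Finset.sum_filter,
    Finset.sum_const, card_Eta_ptor hp hQp hpM, ← Nat.cast_smul_eq_nsmul ℂ, smul_smul, ← h0]
  rfl

theorem dl_tau1_of_mem (hp : p.Prime) (hQ : IsUnit (Q : ZMod M)) (hQp : (Q : ZMod p) = 1) (hpM : p ∣ M) {x : RS M}
    (hx : x ∈ PG Q M p) : dl M p (tau1 Q M p x) = resc (e1 Q M p) x := by
  induction hx using Algebra.adjoin_induction with
  | mem x hx =>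
    obtain ⟨k, c, hk, hc, hpc, rfl⟩ := hx
    exact dl_tau1_rv hp hQ hQp hpM hk hc hpc
  | algebraMap r => rw [AlgHom.commutes, AlgHom.commutes, AlgHom.commutes]
  | add x y _ _ hx hy => rw [map_add, map_add, map_add, hx, hy]
  | mul x y _ _ hx hy => rw [map_mul, map_mul, map_mul, hx, hy]

/-! ### the labelled products and the `p'`-variables -/

theorem Pw_mem_PG (hQ : IsUnit (Q : ZMod M)) {c : ZMod M} (hc : pu M p * c = c) {j : ℕ} (hj : 0 < j) :
    Pw Q M j c ∈ PG Q M p :=
  Algebra.subset_adjoin ⟨_, _, Nat.mul_pos hj (perZ_pos hQ c), (torZ_iff _ c).2 (dvd_mul_left _ _), hc, rfl⟩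

variable {m : ℕ}

theorem SS_mem_PG (hQ : IsUnit (Q : ZMod M)) {c : ZMod M} (hc : pu M p * c = c) (k : ℕ) (β : Fin m → ℕ) :
    SS (fun j => Pw Q M j c) k β ∈ PG Q M p := by
  unfold SS ZV
  refine Subalgebra.sum_mem _ fun ν _ => Subalgebra.smul_mem _ (Subalgebra.smul_mem _ ?_ _) _
  refine Subalgebra.multiset_prod_mem _ fun x hx => ?_
  obtain ⟨j, hj, rfl⟩ := Multiset.mem_map.1 hx
  exact Pw_mem_PG hQ hc (ν.parts_pos hj)

theorem SchP_mem_PG (hp : p.Prime) (hQ : IsUnit (Q : ZMod M)) {t : ZMod M → Fin m → ℕ}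
    (hmono : ∀ c, StrictMono (t c)) (ht : POnly M p t) : SchP Q M t ∈ PG Q M p := by
  rw [SchP_eq]
  refine Subalgebra.prod_mem _ fun c _ => ?_
  by_cases hc : pu M p * c = c
  · exact SS_mem_PG hQ hc _ _
  · have h1 : H577.GLB.Std.bsz (t c) = 0 := ht c fun h => hc ((pReg_iff hp c).1 h)
    show SS (fun j => Pw Q M j c) (H577.GLB.Std.bsz (t c)) (t c) ∈ PG Q M p
    rw [h1, eq_id_of_bsz (hmono c) h1, SS_id]
    exact Subalgebra.one_mem _

theorem SS_zero_var {A : Type*} [CommRing A] [Algebra ℂ A] {k : ℕ} (hk : k ≠ 0) (β : Fin m → ℕ) :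
    SS (fun _ => (0 : A)) k β = 0 := by
  rw [SS, ZV_congr (g := fun _ => 0), ZV_zero]
  intro s hs _
  have h1 : s ≠ 0 := by
    rintro rfl
    exact hk hs.symm
  obtain ⟨a, ha⟩ := Multiset.exists_mem_of_ne_zero h1
  rw [Multiset.prod_eq_zero (Multiset.mem_map.2 ⟨a, ha, rfl⟩), smul_zero]

theorem dl_SchP_zero (hp : p.Prime) (hQ : IsUnit (Q : ZMod M)) {t : ZMod M → Fin m → ℕ}
    (horb : ∀ c, t ((Q : ZMod M) * c) = t c) (ht : ¬ POnly M p t) : dl M p (SchP Q M t) = 0 := by
  unfold POnly at ht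
  push Not at ht
  obtain ⟨c, hc, hb⟩ := ht
  have hc' : pu M p * canon Q M c ≠ canon Q M c := fun h => hc ((pReg_iff hp c).2 ((pu_canon hQ c).1 h))
  rw [SchP_eq, prodS, map_prod]
  refine Finset.prod_eq_zero (canon_mem_repsZ hQ c) ?_
  rw [map_SS, SS_congr (P' := fun _ => 0), SS_zero_var]
  · rw [t_canon t horb]
    exact hb
  · intro j _
    rw [Pw]
    exact dl_rv_zero hQ hc'

/-! ### multidegrees -/

/-- the multidegree of the variables -/
noncomputable def wM (M : ℕ) : Var M → (ZMod M → ℕ) := by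
  classical
  exact fun v => Pi.single v.2 v.1

omit [NeZero M] in
theorem wM_apply (v : Var M) (c : ZMod M) : wM M v c = if v.2 = c then v.1 else 0 := by
  classical
  unfold wM
  rw [Pi.single_apply]
  exact if_congr eq_comm rfl rfl

omit [NeZero M] in
theorem weight_apply (s : Var M →₀ ℕ) (c : ZMod M) :
    Finsupp.weight (wM M) s c = ∑ v ∈ s.support, s v * (if v.2 = c then v.1 else 0) := by
  rw [Finsupp.weight_apply, Finsupp.sum, Finset.sum_apply]
  refine Finset.sum_congr rfl fun v _ => ?_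
  rw [Pi.smul_apply, wM_apply, smul_eq_mul]

open Classical in
theorem mdeg_rv {k : ℕ} {c : ZMod M} (hc : c ∈ repsZ Q M) :
    IsWeightedHomogeneous (wM M) (rv Q M k c) (Pi.single c k) := by
  unfold rv
  split_ifs with h
  · rw [mem_repsZ.1 hc]
    have := isWeightedHomogeneous_X ℂ (wM M) (k, c)
    exact this
  · exact isWeightedHomogeneous_zero ℂ _ _

open Classical in
theorem mdeg_map_Pw {c : ZMod M} (hc : c ∈ repsZ Q M) (s : Multiset ℕ) :
    IsWeightedHomogeneous (wM M) ((s.map fun j => Pw Q M j c).prod) (Pi.single c (s.sum * perZ Q M c)) := by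
  induction s using Multiset.induction_on with
  | empty => simpa using isWeightedHomogeneous_one ℂ (wM M)
  | cons a s ih =>
    rw [Multiset.map_cons, Multiset.prod_cons, Multiset.sum_cons, add_mul, Pi.single_add]
    exact (mdeg_rv hc).mul ih

open Classical in
theorem mdeg_SS {c : ZMod M} (hc : c ∈ repsZ Q M) (k : ℕ) (β : Fin m → ℕ) :
    IsWeightedHomogeneous (wM M) (SS (fun j => Pw Q M j c) k β) (Pi.single c (k * perZ Q M c)) := by
  rw [← mem_weightedHomogeneousSubmodule]
  unfold SS ZV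
  refine Submodule.sum_mem _ fun ν _ => Submodule.smul_mem _ _ (Submodule.smul_mem _ _ ?_)
  rw [mem_weightedHomogeneousSubmodule]
  have := mdeg_map_Pw hc ν.parts
  rwa [ν.parts_sum] at this

open Classical in
theorem mdeg_SchP (t : ZMod M → Fin m → ℕ) : IsWeightedHomogeneous (wM M) (SchP Q M t)
    (∑ c ∈ repsZ Q M, Pi.single c (H577.GLB.Std.bsz (t c) * perZ Q M c)) := by
  rw [SchP_eq]
  exact IsWeightedHomogeneous.prod (repsZ Q M) _ _ fun c hc => mdeg_SS hc _ _

open Classical in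
theorem sum_single_apply (f : ZMod M → ℕ) {c : ZMod M} (hc : c ∈ repsZ Q M) :
    (∑ c ∈ repsZ Q M, Pi.single c (f c) : ZMod M → ℕ) c = f c := by
  rw [Finset.sum_apply, Finset.sum_eq_single c]
  · rw [Pi.single_eq_same]
  · intro b _ hb
    rw [Pi.single_apply, if_neg hb.symm]
  · exact fun h => absurd hc h

/-! ### the special monomial -/

variable (Q M) in
/-- the exponents of `∏ P_1(c) ^ k_c` -/
noncomputable def sP (k : ZMod M → ℕ) : Var M →₀ ℕ := ∑ c ∈ repsZ Q M, Finsupp.single (perZ Q M c, c) (k c)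

open Classical in
theorem sP_apply (k : ZMod M → ℕ) (v : Var M) :
    sP Q M k v = if v.2 ∈ repsZ Q M ∧ v.1 = perZ Q M v.2 then k v.2 else 0 := by
  rw [sP, Finsupp.finsetSum_apply]
  split_ifs with h
  · rw [Finset.sum_eq_single v.2]
    · have h1 : (perZ Q M v.2, v.2) = v := Prod.ext h.2.symm rfl
      rw [h1, Finsupp.single_eq_same]
    · intro b _ hb
      rw [Finsupp.single_apply, if_neg]
      intro h1
      exact hb (congrArg Prod.snd h1)
    · exact fun h1 => absurd h.1 h1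
  · refine Finset.sum_eq_zero fun c hc => ?_
    rw [Finsupp.single_apply, if_neg]
    rintro rfl
    exact h ⟨hc, rfl⟩

theorem sP_support {k : ZMod M → ℕ} {v : Var M} (hv : v ∈ (sP Q M k).support) :
    v.2 ∈ repsZ Q M ∧ v.1 = perZ Q M v.2 ∧ k v.2 ≠ 0 := by
  classical
  rw [Finsupp.mem_support_iff, sP_apply] at hv
  split_ifs at hv with h
  · exact ⟨h.1, h.2, hv⟩
  · exact absurd rfl hv

open Classical in
theorem mdeg_sP (k : ZMod M → ℕ) : Finsupp.weight (wM M) (sP Q M k) =
    ∑ c ∈ repsZ Q M, Pi.single c (k c * perZ Q M c) := by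
  rw [sP, map_sum]
  refine Finset.sum_congr rfl fun c _ => ?_
  rw [Finsupp.weight_single]
  funext c'
  rw [Pi.smul_apply, wM_apply, Pi.single_apply, smul_eq_mul]
  by_cases h : c = c'
  · rw [if_pos h, if_pos h.symm]
  · rw [if_neg h, if_neg (Ne.symm h), mul_zero]

theorem SS_one_var {A : Type*} [CommRing A] [Algebra ℂ A] (x : A) (k : ℕ) (β : Fin m → ℕ) :
    SS (fun j => if j = 1 then x else 0) k β =
      (((H614.zz (Multiset.replicate k 1) : ℂ)⁻¹) * (FM (Multiset.replicate k 1) β : ℂ)) • x ^ k := by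
  classical
  rw [SS, ZV]
  let ν0 : Nat.Partition k := ⟨Multiset.replicate k 1, fun {i} hi => by
    rw [Multiset.eq_of_mem_replicate hi]; exact one_pos, by simp⟩
  rw [Finset.sum_eq_single ν0]
  · have h2 : (ν0.parts.map fun j => if j = 1 then x else 0).prod = x ^ k := by
      show ((Multiset.replicate k 1).map fun j => if j = 1 then x else 0).prod = x ^ k
      rw [Multiset.map_replicate, if_pos rfl, Multiset.prod_replicate]
    rw [h2, smul_smul]
  · intro ν _ hne
    have h1 : ∃ i ∈ ν.parts, i ≠ 1 := by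
      by_contra h
      push Not at h
      apply hne
      apply Nat.Partition.ext
      have h2 := Multiset.eq_replicate_card.2 h
      have h3 : Multiset.card ν.parts = k := by
        have h4 := ν.parts_sum
        rw [h2, Multiset.sum_replicate, smul_eq_mul, mul_one] at h4
        exact h4
      rw [h2, h3]
    obtain ⟨i, hi, hi1⟩ := h1
    rw [Multiset.prod_eq_zero (Multiset.mem_map.2 ⟨i, hi, if_neg hi1⟩), smul_zero, smul_zero]
  · exact fun h => absurd (Finset.mem_univ _) h

theorem coeff_sP_ne_zero (hQ : IsUnit (Q : ZMod M)) {t : ZMod M → Fin m → ℕ} (hmono : ∀ c, StrictMono (t c))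
    {k : ZMod M → ℕ} (hk : ∀ c ∈ repsZ Q M, H577.GLB.Std.bsz (t c) = k c) :
    coeff (sP Q M k) (SchP Q M t) ≠ 0 := by
  classical
  set A : Set (Var M) := {v | v.1 = perZ Q M v.2} with hA
  have h1 : coeff (sP Q M k) (SchP Q M t) = coeff (sP Q M k) (kill A (SchP Q M t)) := by
    rw [coeff_kill, if_pos]
    intro v hv
    exact (sP_support hv).2.1
  have h2 : ∀ c ∈ repsZ Q M, kill A (SS (fun j => Pw Q M j c) (H577.GLB.Std.bsz (t c)) (t c)) =
      (((H614.zz (Multiset.replicate (k c) 1) : ℂ)⁻¹) * (FM (Multiset.replicate (k c) 1) (t c) : ℂ)) •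
        (X (perZ Q M c, c) : RS M) ^ k c := by
    intro c hc
    rw [map_SS, hk c hc, SS_congr (P' := fun j => if j = 1 then X (perZ Q M c, c) else 0), SS_one_var]
    intro j hj
    rw [Pw_eq hQ hc hj, kill, aeval_X]
    by_cases hj1 : j = 1
    · rw [if_pos hj1, hj1, one_mul, if_pos]
      rfl
    · rw [if_neg hj1, if_neg]
      intro h3
      have h4 : j * perZ Q M c = 1 * perZ Q M c := by rw [one_mul]; exact h3
      exact hj1 (Nat.eq_of_mul_eq_mul_right (perZ_pos hQ c) h4)
  have h3 : ∏ c ∈ repsZ Q M, (X (perZ Q M c, c) : RS M) ^ k c = monomial (sP Q M k) 1 := by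
    rw [sP, monomial_sum_one]
    refine Finset.prod_congr rfl fun c _ => ?_
    rw [X_pow_eq_monomial]
  rw [h1, SchP_eq, prodS, map_prod, Finset.prod_congr rfl h2, Finset.prod_smul, h3, coeff_smul, coeff_monomial,
    if_pos rfl, smul_eq_mul, mul_one, Finset.prod_ne_zero_iff]
  intro c hc
  refine mul_ne_zero (inv_ne_zero ?_) ?_
  · have h4 : 0 < H614.zz (Multiset.replicate (k c) 1) := zz_pos fun i hi => by
      rw [Multiset.eq_of_mem_replicate hi]; exact one_pos
    exact_mod_cast h4.ne'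
  · have h5 := FM_ones_ne_zero (hmono c) (bsz_eq (hmono c))
    rw [hk c hc] at h5
    exact_mod_cast h5

/-! ### supports -/

theorem kill_resc {σ : Type*} (A : Set σ) (e : σ → ℂ) (x : MvPolynomial σ ℂ) :
    kill A (resc e x) = resc e (kill A x) := by
  classical
  ext s
  rw [coeff_kill, coeff_resc, coeff_resc, coeff_kill]
  split_ifs <;> simp

omit [NeZero M] in
theorem mem_GenR_of_support {y : RS M} (h : ∀ s ∈ y.support, ∀ v ∈ s.support, GenVar Q M v) : y ∈ GenR Q M := by
  rw [y.as_sum]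
  refine Subalgebra.sum_mem _ fun s hs => ?_
  rw [monomial_eq, Finsupp.prod, C_mul']
  refine Subalgebra.smul_mem _ (Subalgebra.prod_mem _ fun v hv => Subalgebra.pow_mem _ ?_ _) _
  have h1 := h s hs v hv
  refine Algebra.subset_adjoin ⟨v, ?_⟩
  show rv Q M v.1 v.2 = X v
  rw [rv, if_pos ⟨h1.1, h1.2.1⟩, h1.2.2]

theorem genVar_of_mem (hQ : IsUnit (Q : ZMod M)) {x : RS M} (hx : x ∈ GenR Q M) {s : Var M →₀ ℕ}
    (hs : s ∈ x.support) {v : Var M} (hv : v ∈ s.support) : GenVar Q M v := by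
  have h2 := mem_supported_GenVar hQ hx
  rw [mem_supported] at h2
  exact h2 (Finset.mem_coe.2 ((mem_vars_iff_mem_support v).2 ⟨s, hs, hv⟩))

theorem mem_Hom_of_support (hQ : IsUnit (Q : ZMod M)) {n : ℕ} {x y : RS M} (hx : x ∈ Hom Q M n)
    (h : y.support ⊆ x.support) : y ∈ Hom Q M n := by
  refine ⟨mem_GenR_of_support fun s hs v hv => genVar_of_mem hQ hx.1 (h hs) hv, ?_⟩
  intro s hs
  exact hx.2 (mem_support_iff.1 (h (mem_support_iff.2 hs)))

theorem resc_mem_Hom (hQ : IsUnit (Q : ZMod M)) (e : Var M → ℂ) {n : ℕ} {x : RS M} (hx : x ∈ Hom Q M n) :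
    resc e x ∈ Hom Q M n := by
  refine mem_Hom_of_support hQ hx fun s hs => ?_
  rw [mem_support_iff, coeff_resc] at hs
  rw [mem_support_iff]
  exact right_ne_zero_of_mul hs

/-! ### expansion in the labelled products -/

theorem exists_expand (hQ : IsUnit (Q : ZMod M)) {n : ℕ} (hmn : n ≤ m) {x : RS M} (hx : x ∈ Hom Q M n) :
    ∃ T : Finset (LabZ Q M m n), x = ∑ t ∈ T, form Q M x (SchP Q M t.t) • SchP Q M t.t ∧
      ∀ t, form Q M x (SchP Q M t.t) ≠ 0 → t ∈ T := by
  classical
  obtain ⟨l, hl⟩ := (Finsupp.mem_span_range_iff_exists_finsupp).1 (Hom_le_span hQ hmn hx)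
  have h1 : ∀ t : LabZ Q M m n, form Q M x (SchP Q M t.t) = l t := by
    intro t
    rw [← hl, Finsupp.sum, form_sum_left]
    by_cases ht : t ∈ l.support
    · rw [Finset.sum_eq_single_of_mem t ht, form_smul_left, form_SchP hQ, if_pos rfl, mul_one]
      intro t' _ hne
      rw [form_smul_left, form_SchP hQ, if_neg fun h => hne (LabZ.ext h), mul_zero]
    · rw [Finsupp.notMem_support_iff.1 ht]
      refine Finset.sum_eq_zero fun t' ht' => ?_
      rw [form_smul_left, form_SchP hQ, if_neg, mul_zero]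
      intro h
      exact ht (LabZ.ext h ▸ ht')
  refine ⟨l.support, ?_, fun t ht => ?_⟩
  · conv_lhs => rw [← hl, Finsupp.sum]
    exact Finset.sum_congr rfl fun t _ => by rw [h1]
  · rw [h1] at ht
    exact Finsupp.mem_support_iff.2 ht

theorem eq_zero_of_ortho (hQ : IsUnit (Q : ZMod M)) {n : ℕ} (hmn : n ≤ m) {x : RS M} (hx : x ∈ Hom Q M n)
    (h : ∀ t : LabZ Q M m n, form Q M x (SchP Q M t.t) = 0) : x = 0 := by
  obtain ⟨T, hT, -⟩ := exists_expand hQ hmn hx
  rw [hT]
  exact Finset.sum_eq_zero fun t _ => by rw [h t, zero_smul]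

theorem form_sum_SchP (hQ : IsUnit (Q : ZMod M)) {n : ℕ} (T : Finset (LabZ Q M m n)) (a : LabZ Q M m n → ℂ)
    (t : LabZ Q M m n) (ht : t ∉ T) : form Q M (∑ t' ∈ T, a t' • SchP Q M t'.t) (SchP Q M t.t) = 0 := by
  rw [form_sum_left]
  refine Finset.sum_eq_zero fun t' ht' => ?_
  rw [form_smul_left, form_SchP hQ, if_neg, mul_zero]
  intro h
  exact ht (LabZ.ext h ▸ ht')

theorem form_map_sum {T0 : RS M →ₐ[ℂ] RS M} {n : ℕ} (T : Finset (LabZ Q M m n)) (a : LabZ Q M m n → ℂ)
    (t : LabZ Q M m n) (h : ∀ t' ∈ T, form Q M (T0 (SchP Q M t'.t)) (SchP Q M t.t) = 0) :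
    form Q M (T0 (∑ t' ∈ T, a t' • SchP Q M t'.t)) (SchP Q M t.t) = 0 := by
  rw [map_sum, form_sum_left]
  refine Finset.sum_eq_zero fun t' ht' => ?_
  rw [map_smul, form_smul_left, h t' ht', mul_zero]

/-- the part of an eigenvector of a diagonal operator in a closed set of labels is an eigenvector -/
theorem diag_of_closed (hp : p.Prime) (hQ : IsUnit (Q : ZMod M)) {n : ℕ} (hmn : n ≤ m) {T0 : RS M →ₐ[ℂ] RS M}
    {e : Var M → ℂ} (hT : ∀ x ∈ PG Q M p, dl M p (T0 x) = resc e x) {S : Set (LabZ Q M m n)}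
    (hcl : ∀ t t' : LabZ Q M m n, form Q M (T0 (SchP Q M t.t)) (SchP Q M t'.t) ≠ 0 → (t ∈ S ↔ t' ∈ S))
    {P : RS M} (T1 T2 : Finset (LabZ Q M m n)) (a : LabZ Q M m n → ℂ)
    (hT1 : ∀ t ∈ T1, t ∈ S ∧ POnly M p t.t) (hT2 : ∀ t ∈ T2, t ∉ S ∧ POnly M p t.t)
    (hP : P = ∑ t ∈ T1, a t • SchP Q M t.t + ∑ t ∈ T2, a t • SchP Q M t.t) {μ : ℂ} (hμ : resc e P = μ • P) :
    resc e (∑ t ∈ T1, a t • SchP Q M t.t) = μ • ∑ t ∈ T1, a t • SchP Q M t.t := by
  classical
  set PS := ∑ t ∈ T1, a t • SchP Q M t.t with hPS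
  set PC := ∑ t ∈ T2, a t • SchP Q M t.t with hPC
  have hS1 : PS ∈ PG Q M p := Subalgebra.sum_mem _ fun t ht =>
    Subalgebra.smul_mem _ (SchP_mem_PG hp hQ t.mono (hT1 t ht).2) _
  have hC1 : PC ∈ PG Q M p := Subalgebra.sum_mem _ fun t ht =>
    Subalgebra.smul_mem _ (SchP_mem_PG hp hQ t.mono (hT2 t ht).2) _
  have hS2 : PS ∈ Hom Q M n := Submodule.sum_mem _ fun t _ => Submodule.smul_mem _ _ (SchP_mem_Hom hQ t)
  have hP1 : P ∈ PG Q M p := by
    rw [hP]
    exact Subalgebra.add_mem _ hS1 hC1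
  rw [← sub_eq_zero]
  refine eq_zero_of_ortho hQ hmn (Submodule.sub_mem _ (resc_mem_Hom hQ e hS2) (Submodule.smul_mem _ _ hS2)) fun t => ?_
  by_cases ht : POnly M p t.t
  · have hdt : dl M p (SchP Q M t.t) = SchP Q M t.t := dl_of_mem hQ (SchP_mem_PG hp hQ t.mono ht)
    have key : ∀ x ∈ PG Q M p, form Q M (resc e x) (SchP Q M t.t) = form Q M (T0 x) (SchP Q M t.t) := by
      intro x hx
      rw [← hT x hx, dl_eq, form_kill, ← dl_eq, hdt]
    have hsub : ∀ x y z : RS M, form Q M (x - y) z = form Q M x z - form Q M y z := by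
      intro x y z
      rw [sub_eq_add_neg, form_add_left, ← neg_one_smul ℂ y, form_smul_left]
      ring
    rw [hsub, form_smul_left, key PS hS1]
    by_cases hts : t ∈ S
    · have h1 : form Q M (T0 PC) (SchP Q M t.t) = 0 := form_map_sum T2 a t fun t' ht' => by
        by_contra h
        exact (hT2 t' ht').1 ((hcl t' t h).2 hts)
      have h2 : form Q M PC (SchP Q M t.t) = 0 := form_sum_SchP hQ T2 a t fun h => (hT2 t h).1 hts
      have h3 : form Q M (T0 P) (SchP Q M t.t) = μ * form Q M P (SchP Q M t.t) := by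
        rw [← key P hP1, hμ, form_smul_left]
      rw [hP, map_add, form_add_left, form_add_left, h1, h2, add_zero, add_zero] at h3
      rw [h3, sub_self]
    · have h1 : form Q M (T0 PS) (SchP Q M t.t) = 0 := form_map_sum T1 a t fun t' ht' => by
        by_contra h
        exact hts ((hcl t' t h).1 (hT1 t' ht').1)
      have h2 : form Q M PS (SchP Q M t.t) = 0 := form_sum_SchP hQ T1 a t fun h => hts (hT1 t h).1
      rw [h1, h2, mul_zero, sub_zero]
  · have h1 : dl M p (resc e PS - μ • PS) = resc e PS - μ • PS := by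
      rw [map_sub, map_smul, dl_of_mem hQ hS1, dl_eq, kill_resc, ← dl_eq, dl_of_mem hQ hS1]
    rw [← h1, dl_eq, form_kill, ← dl_eq, dl_SchP_zero hp hQ t.orb ht, form_zero_right]

/-- the exponents are determined by the multidegree and the degree -/
theorem eq_sP (hQ : IsUnit (Q : ZMod M)) {s : Var M →₀ ℕ} {k : ZMod M → ℕ} (hs : ∀ v ∈ s.support, GenVar Q M v)
    (h1 : ∀ c ∈ repsZ Q M, ∑ v ∈ s.support, s v * (if v.2 = c then v.1 else 0) = k c * perZ Q M c)
    (h2 : ∑ v ∈ s.support, s v = ∑ c ∈ repsZ Q M, k c) : s = sP Q M k := by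
  classical
  have hrep : ∀ v ∈ s.support, v.2 ∈ repsZ Q M := fun v hv => mem_repsZ.2 (hs v hv).2.2
  have hper : ∀ v ∈ s.support, ∃ r, 0 < r ∧ v.1 = r * perZ Q M v.2 := by
    intro v hv
    obtain ⟨r, hr⟩ := (torZ_iff v.1 v.2).1 (hs v hv).2.1
    refine ⟨r, Nat.pos_of_ne_zero fun h => ?_, by rw [hr, mul_comm]⟩
    have h3 := (hs v hv).1
    rw [hr, h, mul_zero] at h3
    omega
  choose! r hr0 hr using hper
  have h3 : ∀ c ∈ repsZ Q M, ∑ v ∈ s.support with v.2 = c, s v * r v = k c := by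
    intro c hc
    apply Nat.eq_of_mul_eq_mul_right (perZ_pos hQ c)
    rw [← h1 c hc, Finset.sum_mul, Finset.sum_filter]
    refine Finset.sum_congr rfl fun v hv => ?_
    by_cases hvc : v.2 = c
    · rw [if_pos hvc, if_pos hvc, hr v hv, hvc, mul_assoc]
    · rw [if_neg hvc, if_neg hvc, mul_zero]
  have h4 : ∑ v ∈ s.support, s v * r v = ∑ v ∈ s.support, s v := by
    rw [h2, ← Finset.sum_fiberwise_of_maps_to hrep]
    exact Finset.sum_congr rfl h3
  have h5 : ∀ v ∈ s.support, r v = 1 := by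
    have h6 := (Finset.sum_eq_sum_iff_of_le (f := fun v => s v) (g := fun v => s v * r v)
      (fun v hv => Nat.le_mul_of_pos_right _ (hr0 v hv))).1 h4.symm
    intro v hv
    have h7 := h6 v hv
    have h8 : 0 < s v := Nat.pos_of_ne_zero (Finsupp.mem_support_iff.1 hv)
    exact (Nat.eq_of_mul_eq_mul_left h8 (by rw [mul_one]; exact h7)).symm
  have h6 : ∀ v ∈ s.support, v.1 = perZ Q M v.2 := fun v hv => by rw [hr v hv, h5 v hv, one_mul]
  ext v
  rw [sP_apply]
  by_cases hv : v ∈ s.support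
  · rw [if_pos ⟨hrep v hv, h6 v hv⟩, ← h3 v.2 (hrep v hv), Finset.sum_eq_single v]
    · rw [h5 v hv, mul_one]
    · intro w hw hne
      rw [Finset.mem_filter] at hw
      exact absurd (Prod.ext (by rw [h6 w hw.1, h6 v hv, hw.2]) hw.2) hne
    · intro h
      exfalso
      apply h
      rw [Finset.mem_filter]
      exact ⟨hv, rfl⟩
  · rw [Finsupp.notMem_support_iff.1 hv]
    split_ifs with h
    · rw [← h3 v.2 h.1]
      symm
      refine Finset.sum_eq_zero fun w hw => ?_
      rw [Finset.mem_filter] at hw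
      exfalso
      apply hv
      have h7 : w = v := Prod.ext (by rw [h6 w hw.1, h.2, hw.2]) hw.2
      rw [← h7]
      exact hw.1
    · rfl

open Classical in
/-- **(D3)** if `Q = 1` modulo `p`, a set of labels closed under both truncations contains with a `p'`-label all the
`p'`-labels with the same multiplicities -/
theorem mem_of_closed (hp : p.Prime) (hQ : IsUnit (Q : ZMod M)) (hQp : (Q : ZMod p) = 1) (hpM : p ∣ M) {n : ℕ}
    (hmn : n ≤ m) {S : Set (LabZ Q M m n)}
    (hcl0 : ∀ t t' : LabZ Q M m n, form Q M (tauP Q M p (SchP Q M t.t)) (SchP Q M t'.t) ≠ 0 → (t ∈ S ↔ t' ∈ S))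
    (hcl1 : ∀ t t' : LabZ Q M m n, form Q M (tau1 Q M p (SchP Q M t.t)) (SchP Q M t'.t) ≠ 0 → (t ∈ S ↔ t' ∈ S))
    {t t' : LabZ Q M m n} (ht : POnly M p t.t)
    (h : ∀ c, H577.GLB.Std.bsz (t'.t c) = H577.GLB.Std.bsz (t.t c)) (hS : t ∈ S) : t' ∈ S := by
  by_contra hS'
  set k : ZMod M → ℕ := fun c => H577.GLB.Std.bsz (t.t c) with hk
  set P : RS M := monomial (sP Q M k) 1 with hPdef
  have hfP : ∀ t'' : LabZ Q M m n, form Q M P (SchP Q M t''.t) =
      conj (coeff (sP Q M k) (SchP Q M t''.t)) * Nf Q M (sP Q M k) := by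
    intro t''
    rw [hPdef, form_monomial_left, one_mul]
  have hPH : P ∈ Hom Q M n := by
    refine mem_Hom_of_support hQ (SchP_mem_Hom hQ t) ?_
    intro s hs
    rw [hPdef, mem_support_iff, coeff_monomial] at hs
    rw [mem_support_iff]
    have h1 : sP Q M k = s := by
      by_contra hne
      exact hs (if_neg hne)
    rw [← h1]
    exact coeff_sP_ne_zero hQ t.mono fun c _ => rfl
  -- the labels occurring in `P`
  have hbs : ∀ t'' : LabZ Q M m n, form Q M P (SchP Q M t''.t) ≠ 0 →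
      ∀ c, H577.GLB.Std.bsz (t''.t c) = k c := by
    intro t'' ht''
    rw [hfP] at ht''
    have h1 : coeff (sP Q M k) (SchP Q M t''.t) ≠ 0 := by
      intro h2
      rw [h2, map_zero, zero_mul] at ht''
      exact ht'' rfl
    have h2 := mdeg_SchP t''.t h1
    rw [mdeg_sP] at h2
    have h3 : ∀ c ∈ repsZ Q M, H577.GLB.Std.bsz (t''.t c) = k c := by
      intro c hc
      have h4 := congrFun h2 c
      rw [sum_single_apply _ hc, sum_single_apply _ hc] at h4
      exact (Nat.eq_of_mul_eq_mul_right (perZ_pos hQ c) h4).symm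
    intro c
    have h4 := h3 _ (canon_mem_repsZ hQ c)
    rw [t_canon t''.t t''.orb] at h4
    rw [h4, hk]
    show H577.GLB.Std.bsz (t.t (canon Q M c)) = H577.GLB.Std.bsz (t.t c)
    rw [t_canon t.t t.orb]
  have hPO : ∀ t'' : LabZ Q M m n, form Q M P (SchP Q M t''.t) ≠ 0 → POnly M p t''.t := by
    intro t'' ht'' c hc
    rw [hbs t'' ht'' c]
    exact ht c hc
  have hne : ∀ t'' : LabZ Q M m n, (∀ c, H577.GLB.Std.bsz (t''.t c) = k c) → form Q M P (SchP Q M t''.t) ≠ 0 := by
    intro t'' ht''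
    rw [hfP]
    refine mul_ne_zero ((_root_.map_ne_zero _).2 (coeff_sP_ne_zero hQ t''.mono fun c _ => ht'' c)) ?_
    rw [Nf, Finsupp.prod, Finset.prod_ne_zero_iff]
    intro v hv
    refine mul_ne_zero (by exact_mod_cast Nat.factorial_ne_zero _) (pow_ne_zero _ ?_)
    have h1 := (sP_support hv).2.1
    have h2 : 0 < H577.GLB.Std.zz Q M v := by
      rw [H577.GLB.Std.zz]
      exact Finset.card_pos.mpr ⟨0, by simp [h1, perZ_pos hQ]⟩
    exact_mod_cast h2.ne'
  obtain ⟨T, hT, hTmem⟩ := exists_expand hQ hmn hPH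
  set a : LabZ Q M m n → ℂ := fun t => form Q M P (SchP Q M t.t) with ha
  set T' := T.filter fun t => a t ≠ 0 with hT'
  set T1 := T'.filter fun t => t ∈ S with hT1
  set T2 := T'.filter fun t => t ∉ S with hT2
  have hPsum : P = ∑ t ∈ T1, a t • SchP Q M t.t + ∑ t ∈ T2, a t • SchP Q M t.t := by
    rw [hT1, hT2, Finset.sum_filter_add_sum_filter_not, hT', Finset.sum_filter_of_ne]
    · exact hT
    · intro t'' _ h1 h2
      rw [h2, zero_smul] at h1
      exact h1 rfl
  have hmemT' : ∀ t'' ∈ T', a t'' ≠ 0 := fun t'' h1 => (Finset.mem_filter.1 h1).2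
  have hT1' : ∀ t ∈ T1, t ∈ S ∧ POnly M p t.t := fun t'' h1 =>
    ⟨(Finset.mem_filter.1 h1).2, hPO _ (hmemT' _ (Finset.mem_filter.1 h1).1)⟩
  have hT2' : ∀ t ∈ T2, t ∉ S ∧ POnly M p t.t := fun t'' h1 =>
    ⟨(Finset.mem_filter.1 h1).2, hPO _ (hmemT' _ (Finset.mem_filter.1 h1).1)⟩
  set PS := ∑ t ∈ T1, a t • SchP Q M t.t with hPS
  -- the eigenvalues
  have heig : ∀ e : Var M → ℂ, resc e P = ((sP Q M k).prod fun v k => e v ^ k) • P := by
    intro e
    ext s
    rw [coeff_resc, coeff_smul, hPdef, coeff_monomial, smul_eq_mul]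
    by_cases hs : sP Q M k = s
    · rw [hs]
    · rw [if_neg hs, mul_zero, mul_zero]
  have hd0 := diag_of_closed hp hQ hmn (T0 := tauP Q M p) (fun x hx => dl_tauP_of_mem hp hQ hx) hcl0 T1 T2 a hT1' hT2'
    hPsum (heig _)
  have hd1 := diag_of_closed hp hQ hmn (T0 := tau1 Q M p) (fun x hx => dl_tau1_of_mem hp hQ hQp hpM hx) hcl1 T1 T2 a
    hT1' hT2' hPsum (heig _)
  rw [← hPS] at hd0 hd1
  have hPSH : PS ∈ Hom Q M n := Submodule.sum_mem _ fun t _ => Submodule.smul_mem _ _ (SchP_mem_Hom hQ t)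
  have hmdeg : IsWeightedHomogeneous (wM M) PS (∑ c ∈ repsZ Q M, Pi.single c (k c * perZ Q M c)) := by
    rw [← mem_weightedHomogeneousSubmodule]
    refine Submodule.sum_mem _ fun t'' ht'' => Submodule.smul_mem _ _ ?_
    rw [mem_weightedHomogeneousSubmodule]
    have h1 := mdeg_SchP (Q := Q) t''.t
    have h2 := hbs t'' (hmemT' _ (Finset.mem_filter.1 ht'').1)
    rwa [Finset.sum_congr rfl fun c _ => by rw [h2 c]] at h1
  have hsupp : ∀ s, coeff s PS ≠ 0 → s = sP Q M k := by
    intro s hs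
    have hss : s ∈ PS.support := mem_support_iff.2 hs
    refine eq_sP hQ (fun v hv => genVar_of_mem hQ hPSH.1 hss hv) ?_ ?_
    · intro c hc
      have h1 := congrFun (hmdeg hs) c
      rw [weight_apply, sum_single_apply _ hc] at h1
      exact h1
    · have h0 := congrArg (coeff s) hd0
      have h1 := congrArg (coeff s) hd1
      rw [coeff_resc, coeff_smul, smul_eq_mul] at h0 h1
      have h0' := mul_right_cancel₀ hs h0
      have h1' := mul_right_cancel₀ hs h1
      have hE : ∀ s' : Var M →₀ ℕ, (s'.prod fun v k => e1 Q M p v ^ k) =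
          (s'.prod fun v k => (((Eta Q M p v.1).card : ℂ)⁻¹) ^ k) * (p : ℂ) ^ (∑ v ∈ s'.support, s' v) := by
        intro s'
        rw [Finsupp.prod, Finsupp.prod, ← Finset.prod_pow_eq_pow_sum, ← Finset.prod_mul_distrib]
        exact Finset.prod_congr rfl fun v _ => by rw [e1, mul_pow]
      rw [hE, hE, h0'] at h1'
      have hne0 : ((sP Q M k).prod fun v k => (((Eta Q M p v.1).card : ℂ)⁻¹) ^ k) ≠ 0 := by
        rw [Finsupp.prod, Finset.prod_ne_zero_iff]
        exact fun v _ => pow_ne_zero _ (inv_ne_zero (card_Eta_ne hp _))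
      have h2 := mul_left_cancel₀ hne0 h1'
      have h3 : p ^ (∑ v ∈ s.support, s v) = p ^ (∑ v ∈ (sP Q M k).support, sP Q M k v) := by exact_mod_cast h2
      rw [Nat.pow_right_injective hp.two_le h3]
      have h4 : ∑ v ∈ (sP Q M k).support, sP Q M k v = Finsupp.degree (sP Q M k) := rfl
      rw [h4, sP, map_sum]
      exact Finset.sum_congr rfl fun c _ => Finsupp.degree_single _ _
  have hPSP : PS = coeff (sP Q M k) PS • P := by
    ext s
    rw [coeff_smul, hPdef, coeff_monomial, smul_eq_mul]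
    by_cases hs : sP Q M k = s
    · rw [if_pos hs, hs, mul_one]
    · rw [if_neg hs, mul_zero]
      by_contra h1
      exact hs (hsupp s h1).symm
  set ε := coeff (sP Q M k) PS with hε
  have hat : a t ≠ 0 := hne t fun c => rfl
  have hat' : a t' ≠ 0 := hne t' h
  have h1 : form Q M PS (SchP Q M t'.t) = 0 := form_sum_SchP hQ T1 a t' fun h1 => hS' (Finset.mem_filter.1 h1).2
  have h2 : form Q M PS (SchP Q M t.t) = a t := by
    have h3 : t ∈ T1 := Finset.mem_filter.2 ⟨Finset.mem_filter.2 ⟨hTmem t hat, hat⟩, hS⟩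
    rw [hPS, form_sum_left, Finset.sum_eq_single_of_mem t h3, form_smul_left, form_SchP hQ, if_pos rfl, mul_one]
    intro t'' _ hne'
    rw [form_smul_left, form_SchP hQ, if_neg fun h => hne' (LabZ.ext h), mul_zero]
  rw [hPSP, form_smul_left] at h1 h2
  rcases mul_eq_zero.1 h1 with h3 | h3
  · rw [h3, zero_mul] at h2
    exact hat h2.symm
  · exact hat' h3

end Cfsg.Agent.H941.GLn.FamOne
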