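import Cfsg.Agent.H941.GLn.Delta
import Cfsg.Agent.H623.GLn.Cop

/-!
# S4536, R1: the realization of the standard model meets every irreducible character (helper941)

* `exists_delta'` : the function `[g = 1]` of `GL_n(F)` is `Om θ M n x` with `x ∈ Hom q M n`;
* `Om_add`, `Om_smul`, `Om_sum` : linearity of `Om`;
* `exists_inner_ne_zero` : every irreducible character of `GL_n(F)` is not orthogonal to the image;
* `exists_Om_eq` : if the `y i` span `Hom q M n` and each `Om θ M n (y i)` is `±` an irreducible character then each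
  irreducible character is `± Om θ M n (y i)`.
-/

set_option autoImplicit false

open Polynomial Cfsg
open scoped ComplexConjugate

namespace Cfsg.Agent.H941.GLn

open Cfsg.Agent.H614.GLn Cfsg.Agent.H614.GLn.Fam Cfsg.Agent.H577.GLB.Std Cfsg.Agent.H623.GLn
open Cfsg.Agent.H577.GLB.Real (Om)
open Cfsg.Agent.Characters.Core (classInner_add_left classInner_smul_left classInner_zero_left classInner_def
  classInner_irr_ne isIrr_apply_one_ne_zero)

universe u w

variable {F : Type u} [Field F] {K : Type w} [Field K] [Algebra F K] {θ : K →*₀ ℂ} {N M : ℕ}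

theorem realRv [NeZero M] (ctx : Ctx F θ N M) : RealRv F θ N M := fun _ _ hk hkN h => piA_rv ctx hk hkN h

theorem Om_apply (n : ℕ) (x : RS M) (g : GL (Fin n) F) :
    Om θ M n x g = (piA (F := F) θ M x).fn (Fin n → F) (Matrix.toLin' (g : Matrix (Fin n) (Fin n) F)) := rfl

theorem Om_zero (n : ℕ) : Om (F := F) θ M n 0 = 0 := by
  funext g
  rw [Om_apply, map_zero]
  rfl

theorem Om_add (n : ℕ) (x y : RS M) : Om (F := F) θ M n (x + y) = Om θ M n x + Om θ M n y := by
  funext g
  rw [Pi.add_apply, Om_apply, Om_apply, Om_apply, map_add, add_fn]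

theorem Om_smul (n : ℕ) (c : ℂ) (x : RS M) : Om (F := F) θ M n (c • x) = c • Om θ M n x := by
  funext g
  rw [Pi.smul_apply, Om_apply, Om_apply, map_smul, smul_fn, smul_eq_mul]

/-- `Om` as a linear map -/
noncomputable def OmL (F : Type u) [Field F] {K : Type w} [Field K] [Algebra F K] (θ : K →*₀ ℂ) (M n : ℕ) :
    RS M →ₗ[ℂ] GL (Fin n) F → ℂ where
  toFun := Om θ M n
  map_add' := Om_add n
  map_smul' := Om_smul n

theorem OmL_apply (n : ℕ) (x : RS M) : OmL F θ M n x = Om θ M n x := rfl

theorem Om_sum {ι : Type*} (s : Finset ι) (f : ι → RS M) (n : ℕ) :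
    Om (F := F) θ M n (∑ i ∈ s, f i) = ∑ i ∈ s, Om θ M n (f i) := map_sum (OmL F θ M n) f s

open Classical in
/-- **(R1)** the function `[g = 1]` -/
theorem exists_delta' [NeZero M] (ctx : Ctx F θ N M) {n : ℕ} (hn : n ≤ N) :
    ∃ x ∈ Hom (Nat.card F : ℤ) M n, Om (F := F) θ M n x = fun g => if g = 1 then 1 else 0 := by
  have := ctx.finF
  obtain ⟨x, hx, hx'⟩ := exists_delta ctx (realRv ctx) hn
  refine ⟨x, hx, funext fun g => ?_⟩
  rw [Om_apply, hx']
  refine if_congr ⟨fun h => ?_, fun h => ⟨by simp, ?_⟩⟩ rfl rfl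
  · apply Units.ext
    apply Matrix.toLin'.injective
    rw [h.2, Units.val_one, Matrix.toLin'_one]
  · rw [h, Units.val_one, Matrix.toLin'_one]

/-- **(R1)** no irreducible character is orthogonal to the image of the standard model -/
theorem exists_inner_ne_zero [NeZero M] (ctx : Ctx F θ N M) {n : ℕ} (hn : n ≤ N) [Fintype (GL (Fin n) F)]
    {χ : GL (Fin n) F → ℂ} (hχ : IsIrrCharacter (GL (Fin n) F) χ) :
    ∃ x ∈ Hom (Nat.card F : ℤ) M n, classInner (Om (F := F) θ M n x) χ ≠ 0 := by
  classical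
  obtain ⟨x, hx, hx'⟩ := exists_delta' ctx hn
  refine ⟨x, hx, ?_⟩
  rw [hx', classInner_def]
  refine mul_ne_zero (inv_ne_zero (Nat.cast_ne_zero.2 Nat.card_pos.ne')) ?_
  rw [Finset.sum_eq_single (1 : GL (Fin n) F)]
  · rw [if_pos rfl, one_mul]
    exact (_root_.map_ne_zero _).2 (isIrr_apply_one_ne_zero hχ)
  · intro g _ hg
    rw [if_neg hg, zero_mul]
  · intro h
    exact absurd (Finset.mem_univ _) h

/-- **(R1)** completeness: a spanning set of signed irreducible characters meets every irreducible character -/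
theorem exists_Om_eq [NeZero M] (ctx : Ctx F θ N M) {n : ℕ} (hn : n ≤ N) {ι : Type*} {y : ι → RS M}
    (hy : Hom (Nat.card F : ℤ) M n ≤ Submodule.span ℂ (Set.range y))
    (hirr : ∀ i, ∃ (s : ℤˣ) (χ : IrrCharacter (GL (Fin n) F)),
      Om (F := F) θ M n (y i) = ((s : ℤ) : ℂ) • (χ : GL (Fin n) F → ℂ)) (χ : IrrCharacter (GL (Fin n) F)) :
    ∃ (i : ι) (s : ℤˣ), Om (F := F) θ M n (y i) = ((s : ℤ) : ℂ) • (χ : GL (Fin n) F → ℂ) := by
  have := ctx.finF
  have := Fintype.ofFinite (GL (Fin n) F)
  by_contra hne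
  push Not at hne
  obtain ⟨x, hx, hx'⟩ := exists_inner_ne_zero ctx hn (χ := χ) χ.2
  apply hx'
  have key : ∀ z ∈ Submodule.span ℂ (Set.range y), classInner (Om (F := F) θ M n z) χ = 0 := by
    intro z hz
    induction hz using Submodule.span_induction with
    | mem z hz =>
      obtain ⟨i, rfl⟩ := hz
      obtain ⟨s, χ', h⟩ := hirr i
      rw [h, classInner_smul_left, classInner_irr_ne χ'.2 χ.2, mul_zero]
      intro h1
      exact hne i s (by rw [h, h1])
    | zero => rw [Om_zero, classInner_zero_left]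
    | add a b _ _ ha hb => rw [Om_add, classInner_add_left, ha, hb, add_zero]
    | smul c a _ ha => rw [Om_smul, classInner_smul_left, ha, mul_zero]
  exact key x (hy hx)

end Cfsg.Agent.H941.GLn
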