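import Cfsg.Agent.H941.GLn.Mobius
import Cfsg.Agent.H623.GLn.Wick

/-!
# The regular character is in the image of the standard model (S4536, R1; helper941)
-/

set_option autoImplicit false

open Polynomial

namespace Cfsg.Agent.H941.GLn

open Cfsg.Agent.H614.GLn Cfsg.Agent.H614.GLn.Fam Cfsg.Agent.H139.Cusp

universe u v w

attribute [local instance] fintypeHom fintypeSub finite_quot

/-! ### components of a product -/

section comps

variable {F : Type u} [Field F]

theorem comp_mul (n : ℕ) (f g : Fam F) :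
    comp n (f * g) = ∑ p ∈ Finset.HasAntidiagonal.antidiagonal n, comp p.1 f * comp p.2 g := by
  classical
  refine Fam.ext' fun V _ _ _ T => ?_
  rw [comp_fn, sum_fn]
  have key : ∀ (p : ℕ × ℕ) (W : Submodule F V), (comp p.1 f).term (comp p.2 g) V T W =
      if Module.finrank F (V ⧸ W) = p.1 ∧ Module.finrank F W = p.2 then f.term g V T W else 0 := by
    intro p W
    by_cases hW : W ≤ W.comap T
    · rw [term_of hW, term_of hW, comp_fn, comp_fn]
      by_cases h1 : Module.finrank F (V ⧸ W) = p.1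
      · by_cases h2 : Module.finrank F W = p.2
        · rw [if_pos h1, if_pos h2, if_pos ⟨h1, h2⟩]
        · rw [if_neg h2, mul_zero, if_neg fun h => h2 h.2]
      · rw [if_neg h1, zero_mul, if_neg fun h => h1 h.1]
    · rw [term_of_not hW, term_of_not hW]
      split_ifs <;> rfl
  rw [Finset.sum_congr rfl fun p _ => by rw [mul_fn', Finset.sum_congr rfl fun W _ => key p W], Finset.sum_comm]
  by_cases hn : Module.finrank F V = n
  · rw [if_pos hn, mul_fn']
    refine Finset.sum_congr rfl fun W _ => ?_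
    have h1 := W.finrank_quotient_add_finrank
    rw [Finset.sum_eq_single (Module.finrank F (V ⧸ W), Module.finrank F W)]
    · rw [if_pos ⟨rfl, rfl⟩]
    · intro p _ hp
      rw [if_neg]
      rintro ⟨h2, h3⟩
      exact hp (Prod.ext h2.symm h3.symm)
    · intro h
      exact absurd (Finset.HasAntidiagonal.mem_antidiagonal.2 (h1.trans hn)) h
  · rw [if_neg hn]
    symm
    refine Finset.sum_eq_zero fun W _ => Finset.sum_eq_zero fun p hp => ?_
    rw [if_neg]
    rintro ⟨h2, h3⟩
    have h1 := W.finrank_quotient_add_finrank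
    exact hn (by rw [← h1, h2, h3]; exact Finset.HasAntidiagonal.mem_antidiagonal.1 hp)

theorem comp_one (n : ℕ) : comp n (1 : Fam F) = if n = 0 then 1 else 0 := by
  refine Fam.ext' fun V _ _ _ T => ?_
  rw [comp_fn]
  by_cases hV : Subsingleton V
  · have h1 : Module.finrank F V = 0 := Module.finrank_zero_of_subsingleton
    rw [h1, one_fn]
    by_cases hn : n = 0
    · rw [if_pos hn.symm, if_pos hn, one_fn]
    · rw [if_neg (Ne.symm hn), if_neg hn]
      rfl
  · rw [one_fn' V hV]
    by_cases hn : n = 0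
    · rw [if_pos hn, one_fn' V hV]
      split_ifs <;> rfl
    · rw [if_neg hn]
      split_ifs <;> rfl

theorem comp_comp (n : ℕ) (f : Fam F) : comp n (comp n f) = comp n f := by
  refine Fam.ext' fun V _ _ _ T => ?_
  rw [comp_fn, comp_fn]
  split_ifs <;> rfl

theorem comp_add (n : ℕ) (f g : Fam F) : comp n (f + g) = comp n f + comp n g := by
  refine Fam.ext' fun V _ _ _ T => ?_
  rw [comp_fn, add_fn, add_fn, comp_fn, comp_fn]
  split_ifs <;> simp

/-- Newton's formula for `Un` -/
theorem newton_Un (n : ℕ) : (n : ℂ) • comp n (Un F) =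
    ∑ p ∈ Finset.HasAntidiagonal.antidiagonal n, comp p.1 (Un F) * comp p.2 (pw (unB F) (kapF fun h => (h.natDegree : ℂ))) := by
  rw [← comp_mul]
  refine Fam.ext' fun V _ _ _ T => ?_
  rw [smul_fn, comp_fn, comp_fn]
  split_ifs with h
  · rw [Un, grp_fn, mul_fn']
    have key : ∀ W : Submodule F V, (grp (unB F)).term (pw (unB F) (kapF fun h => (h.natDegree : ℂ))) V T W =
        unB F T.charpoly * kap (fun h => (h.natDegree : ℂ)) T W := by
      intro W
      by_cases hW : W ≤ W.comap T
      · rw [term_of hW, grp_fn, pw_fn, kapF_fn, kap_eq_top _ hW, charpoly_eq_mul W T hW,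
          mlt_unB.2 _ _ (LinearMap.charpoly_monic _) (LinearMap.charpoly_monic _)]
        ring
      · rw [term_of_not hW, kap_of_not _ hW, mul_zero]
    rw [Finset.sum_congr rfl fun W _ => key W, ← Finset.mul_sum, kap_sum_top, LinearMap.charpoly_natDegree, h]
    ring
  · rw [mul_zero]

end comps

/-! ### the primitive part of `Un` -/

section prim

variable {F : Type u} [Field F] {K : Type w} [Field K] [Algebra F K] {θ : K →*₀ ℂ}

open Cfsg.Agent.H577.GLB.Std Cfsg.Agent.H623.GLn

theorem add_natDegree : ∀ p q : F[X], p.Monic → q.Monic →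
    (fun h : F[X] => (h.natDegree : ℂ)) (p * q) = (fun h : F[X] => (h.natDegree : ℂ)) p + (fun h : F[X] => (h.natDegree : ℂ)) q := by
  intro p q hp hq
  show ((p * q).natDegree : ℂ) = p.natDegree + q.natDegree
  rw [hp.natDegree_mul hq]
  push_cast
  rfl

/-- a root of a polynomial whose degree divides `k` lies in the field with `q^k` elements -/
theorem root_pow [Finite F] {f : F[X]} (hirr : Irreducible f) {k : ℕ} (hd : f.natDegree ∣ k) {x : K}
    (hx : (f.map (algebraMap F K)).IsRoot x) : x ^ (Nat.card F ^ k) = x := by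
  have h1 : f ∣ X ^ (Nat.card F ^ k) - X := hirr.natDegree_dvd_iff_dvd_X_pow_card_pow_sub_X.1 hd
  have h2 : f.map (algebraMap F K) ∣ (X ^ (Nat.card F ^ k) - X : F[X]).map (algebraMap F K) := Polynomial.map_dvd _ h1
  have h3 := hx.dvd h2
  rw [IsRoot.def, Polynomial.map_sub, Polynomial.map_pow, Polynomial.map_X, eval_sub, eval_pow, eval_X, sub_eq_zero] at h3
  exact h3

open Classical in
/-- the geometric sum -/
theorem sum_expo {M q k : ℕ} [NeZero M] (hq : 2 ≤ q) (hk : 0 < k) (hM : q ^ k - 1 ∣ M) (z : ℂ) (hz : z ^ (q ^ k - 1) = 1) :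
    ∑ c ∈ Finset.univ.filter (fun c : ZMod M => TorZ (q : ℤ) M k c), z ^ expo q M k c =
      if z = 1 then ((q ^ k - 1 : ℕ) : ℂ) else 0 := by
  have hq1 : 1 < q ^ k := Nat.one_lt_pow hk.ne' hq
  have hpos : 0 < q ^ k - 1 := by omega
  have hM0 : 0 < M := Nat.pos_of_ne_zero (NeZero.ne M)
  obtain ⟨L, hL⟩ := hM
  have hL0 : 0 < L := by
    rcases Nat.eq_zero_or_pos L with h | h
    · rw [h, mul_zero] at hL
      omega
    · exact h
  have h1 : ∑ c ∈ Finset.univ.filter (fun c : ZMod M => TorZ (q : ℤ) M k c), z ^ expo q M k c =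
      ∑ j ∈ Finset.range (q ^ k - 1), z ^ j := by
    refine Finset.sum_nbij' (fun c => expo q M k c) (fun j => ((j * L : ℕ) : ZMod M)) ?_ ?_ ?_ ?_ ?_
    · intro c hc
      rw [Finset.mem_range, expo, Nat.div_lt_iff_lt_mul hM0]
      exact (Nat.mul_lt_mul_right hpos).2 (ZMod.val_lt c) |>.trans_eq (mul_comm _ _)
    · intro j hj
      have hj' := Finset.mem_range.1 hj
      refine Finset.mem_filter.2 ⟨Finset.mem_univ _, ?_⟩
      rw [torZ_iff (by omega), ZMod.val_natCast_of_lt]
      · rw [mul_assoc, mul_comm L, ← hL]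
        exact Dvd.intro_left _ rfl
      · rw [hL]
        exact (Nat.mul_lt_mul_right hL0).2 hj'
    · intro c hc
      have h2 := expo_mul (show 1 ≤ q by omega) (Finset.mem_filter.1 hc).2
      have h3 : expo q M k c * L = c.val := by
        apply Nat.eq_of_mul_eq_mul_right hpos
        rw [mul_assoc, mul_comm L, ← hL]
        exact h2
      show ((expo q M k c * L : ℕ) : ZMod M) = c
      rw [h3, ZMod.natCast_zmod_val]
    · intro j hj
      have hj' := Finset.mem_range.1 hj
      have h2 : j * L < M := by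
        rw [hL]
        exact (Nat.mul_lt_mul_right hL0).2 hj'
      show expo q M k ((j * L : ℕ) : ZMod M) = j
      rw [expo, ZMod.val_natCast_of_lt h2, mul_assoc, mul_comm L, ← hL, Nat.mul_div_cancel _ hM0]
    · intro c _
      rfl
  rw [h1]
  by_cases hz1 : z = 1
  · rw [if_pos hz1, hz1]
    simp
  · rw [if_neg hz1]
    have h2 := geom_sum_mul z (q ^ k - 1)
    rw [hz, sub_self] at h2
    exact (mul_eq_zero.1 h2).resolve_right (sub_ne_zero.2 hz1)

theorem sum_map_comm {ι α : Type*} (s : Finset ι) (m : Multiset α) (g : ι → α → ℂ) :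
    ∑ c ∈ s, (m.map (g c)).sum = (m.map fun x => ∑ c ∈ s, g c x).sum := by
  induction m using Multiset.induction_on with
  | empty => simp
  | cons a m ih => simp only [Multiset.map_cons, Multiset.sum_cons, Finset.sum_add_distrib, ih]

open Classical in
theorem sum_lba {N M : ℕ} [NeZero M] (ctx : Ctx F θ N M) {k : ℕ} (hk : 0 < k) (hkN : k ≤ N) {f : F[X]} (hf : f.Monic)
    (hirr : Irreducible f) (hd : f.natDegree ∣ k) :
    ∑ c ∈ Finset.univ.filter (fun c : ZMod M => TorZ (Nat.card F : ℤ) M k c), lba θ (expo (Nat.card F) M k c) f =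
      if f = X - 1 then ((Nat.card F ^ k - 1 : ℕ) : ℂ) else 0 := by
  have := ctx.finF
  have hq : 2 ≤ Nat.card F := Finite.one_lt_card
  have h1 : ∀ x ∈ (f.map (algebraMap F K)).roots,
      ∑ c ∈ Finset.univ.filter (fun c : ZMod M => TorZ (Nat.card F : ℤ) M k c),
        (if x = 0 then 0 else θ x ^ expo (Nat.card F) M k c) = if x = 1 then ((Nat.card F ^ k - 1 : ℕ) : ℂ) else 0 := by
    intro x hx
    by_cases hx0 : x = 0
    · rw [if_neg (by rw [hx0]; exact zero_ne_one)]
      simp [hx0]
    · simp only [if_neg hx0]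
      have h2 : x ^ (Nat.card F ^ k) = x := root_pow hirr hd (Polynomial.isRoot_of_mem_roots hx)
      have h3 : x ^ (Nat.card F ^ k - 1) = 1 := by
        have h4 : x ^ (Nat.card F ^ k - 1) * x = 1 * x := by
          rw [← pow_succ, Nat.sub_add_cancel (Nat.one_le_pow _ _ (by omega)), h2, one_mul]
        exact mul_right_cancel₀ hx0 h4
      rw [sum_expo hq hk (ctx.dvd k hk hkN) (θ x) (by rw [← map_pow, h3, map_one])]
      refine if_congr ⟨fun h => ctx.inj (by rw [h, map_one]), fun h => by rw [h, map_one]⟩ rfl rfl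
  unfold lba
  rw [sum_map_comm, Multiset.map_congr rfl h1]
  by_cases hf1 : f = X - 1
  · rw [if_pos hf1, hf1, Polynomial.map_sub, Polynomial.map_X, Polynomial.map_one, ← C_1, roots_X_sub_C]
    simp
  · rw [if_neg hf1]
    have h2 : (1 : K) ∉ (f.map (algebraMap F K)).roots := by
      intro h
      have h3 := Polynomial.isRoot_of_mem_roots h
      apply hf1
      have h4 : f.IsRoot 1 := by
        rw [IsRoot.def, eval_map, eval₂_at_one] at h3
        exact (map_eq_zero (algebraMap F K)).1 h3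
      have h5 : (X - C 1 : F[X]) ∣ f := dvd_iff_isRoot.2 h4
      have h6 := (irreducible_X_sub_C (1 : F)).associated_of_dvd hirr h5
      rw [C_1] at h6
      exact (eq_of_monic_of_associated monic_X_sub_one hf h6).symm
    refine Multiset.sum_eq_zero fun y hy => ?_
    obtain ⟨x, hx, rfl⟩ := Multiset.mem_map.1 hy
    rw [if_neg]
    rintro rfl
    exact h2 hx

open Classical in
/-- **the primitive part of `Un`** -/
theorem prim_Un {N M : ℕ} [NeZero M] (ctx : Ctx F θ N M) {k : ℕ} (hk : 0 < k) (hkN : k ≤ N) :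
    ((Nat.card F ^ k - 1 : ℕ) : ℂ) • comp k (pw (unB F) (kapF fun h => (h.natDegree : ℂ))) =
      ∑ c ∈ Finset.univ.filter (fun c : ZMod M => TorZ (Nat.card F : ℤ) M k c), Rc (F := F) θ M k c := by
  have := ctx.finF
  refine Fam.ext' fun V _ _ _ T => ?_
  rw [smul_fn, comp_fn, sum_fn]
  simp only [Rc, Rf, comp_fn]
  by_cases hV : Module.finrank F V = k
  · simp only [if_pos hV]
    rw [pw_fn, kapF_fn]
    simp only [kapF_fn]
    have hnt : Nontrivial V := Module.nontrivial_of_finrank_pos (R := F) (by omega)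
    by_cases h : ∃ (f : F[X]) (m : ℕ), f.Monic ∧ Irreducible f ∧ 0 < m ∧ T.charpoly = f ^ m
    · obtain ⟨f, m, hf, hirr, hm, hfm⟩ := h
      obtain ⟨j, hj⟩ := exists_finrank_ker hirr (g := T) (by rw [hfm]; exact dvd_pow_self f hm.ne')
      have hdk : f.natDegree ∣ k := by
        rw [← hV, ← LinearMap.charpoly_natDegree T, hfm, natDegree_pow]
        exact Dvd.intro_left _ rfl
      rw [kap_formula (fun h : F[X] => (h.natDegree : ℂ)) add_natDegree hf hirr (aeval_pow_of_charpoly hfm) hj,
        Finset.sum_congr rfl fun c _ => kap_formula _ (lba_add θ _) hf hirr (aeval_pow_of_charpoly hfm) hj,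
        ← Finset.sum_mul, sum_lba ctx hk hkN hf hirr hdk, hfm]
      by_cases hf1 : f = X - 1
      · rw [if_pos hf1, hf1, unB_pow, natDegree_X_sub_one]
        push_cast
        ring
      · rw [if_neg hf1, unB_eq_zero, zero_mul, zero_mul, mul_zero]
        rintro ⟨i, hi⟩
        apply hf1
        have h1 : f ∣ (X - 1 : F[X]) ^ i := hi ▸ dvd_pow_self f hm.ne'
        have h2 : f ∣ (X - 1 : F[X]) := hirr.prime.dvd_of_dvd_pow h1
        exact eq_of_monic_of_associated hf monic_X_sub_one (hirr.associated_of_dvd irreducible_X_sub_one h2)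
    · have h1 : kap (fun h : F[X] => (h.natDegree : ℂ)) T ⊤ = 0 :=
        (kap_eq_zero_or _ add_natDegree T).resolve_left h
      have h2 : ∀ a, kap (lba (F := F) θ a) T ⊤ = 0 := fun a => (kap_eq_zero_or _ (lba_add θ a) T).resolve_left h
      rw [h1, mul_zero, mul_zero, Finset.sum_eq_zero fun c _ => h2 _]
  · simp only [if_neg hV]
    rw [mul_zero, Finset.sum_const_zero]

/-- the component of degree zero vanishes -/
theorem prim_Un_zero : comp 0 (pw (unB F) (kapF fun h => (h.natDegree : ℂ))) = (0 : Fam F) := by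
  refine Fam.ext' fun V _ _ _ T => ?_
  rw [comp_fn, zero_fn]
  split_ifs with h
  · have hs : Subsingleton V := Module.finrank_zero_iff.1 h
    have h1 : (⊤ : Submodule F V) = ⊥ := Subsingleton.elim _ _
    rw [pw_fn, kapF_fn, h1, kap_bot _ add_natDegree, mul_zero]
  · rfl

end prim

/-! ### homogeneous elements of the standard model -/

section hom

open Cfsg.Agent.H577.GLB.Std MvPolynomial

variable {Q : ℤ} {M : ℕ}

theorem Hom_mul {i j : ℕ} {x y : RS M} (hx : x ∈ Hom Q M i) (hy : y ∈ Hom Q M j) : x * y ∈ Hom Q M (i + j) :=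
  ⟨(GenR Q M).mul_mem hx.1 hy.1, (mem_weightedHomogeneousSubmodule ℂ _ _ _).2
    (((mem_weightedHomogeneousSubmodule ℂ _ _ _).1 hx.2).mul ((mem_weightedHomogeneousSubmodule ℂ _ _ _).1 hy.2))⟩

theorem Hom_one : (1 : RS M) ∈ Hom Q M 0 :=
  ⟨(GenR Q M).one_mem, (mem_weightedHomogeneousSubmodule ℂ _ _ _).2 (isWeightedHomogeneous_one ℂ _)⟩

theorem Hom_rv (k : ℕ) (c : ZMod M) : rv Q M k c ∈ Hom Q M k := by
  classical
  refine ⟨Algebra.subset_adjoin ⟨(k, c), rfl⟩, (mem_weightedHomogeneousSubmodule ℂ _ _ _).2 ?_⟩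
  rw [rv]
  split_ifs
  · exact isWeightedHomogeneous_X ℂ (fun v : Var M => v.1) (k, canon Q M c)
  · exact isWeightedHomogeneous_zero ℂ _ _

end hom

/-! ### the regular character -/

section delta

open Cfsg.Agent.H577.GLB.Std Cfsg.Agent.H623.GLn

variable {F : Type u} [Field F] {K : Type w} [Field K] [Algebra F K] {θ : K →*₀ ℂ} {N M : ℕ}

theorem comp_zero_Un : comp 0 (Un F) = 1 := by
  refine Fam.ext' fun V _ _ _ T => ?_
  rw [comp_fn]
  by_cases hV : Subsingleton V
  · have h1 : Module.finrank F V = 0 := Module.finrank_zero_of_subsingleton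
    have h3 : T.charpoly = 1 := by
      rw [← (LinearMap.charpoly_monic T).natDegree_eq_zero, LinearMap.charpoly_natDegree, h1]
    rw [if_pos h1, one_fn, Un, grp_fn, h3, mlt_unB.1]
  · rw [one_fn' V hV, if_neg fun h => hV (Module.finrank_zero_iff.1 h)]

/-- hypothesis on the realization of the variables -/
def RealRv (F : Type u) [Field F] {K : Type w} [Field K] [Algebra F K] (θ : K →*₀ ℂ) (N M : ℕ) : Prop :=
  ∀ (k : ℕ) (c : ZMod M), 0 < k → k ≤ N → TorZ (Nat.card F : ℤ) M k c →
    piA (F := F) θ M (rv (Nat.card F : ℤ) M k c) = Rc θ M k c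

open Classical in
theorem exists_prim [NeZero M] (ctx : Ctx F θ N M) (hrv : RealRv F θ N M) {k : ℕ} (hkN : k ≤ N) :
    ∃ x ∈ Hom (Nat.card F : ℤ) M k, piA (F := F) θ M x = comp k (pw (unB F) (kapF fun h => (h.natDegree : ℂ))) := by
  rcases Nat.eq_zero_or_pos k with rfl | hk
  · exact ⟨0, Submodule.zero_mem _, by rw [map_zero, prim_Un_zero]⟩
  · have := ctx.finF
    have hq : 2 ≤ Nat.card F := Finite.one_lt_card
    have hq1 : 1 < Nat.card F ^ k := Nat.one_lt_pow hk.ne' hq
    have h0 : ((Nat.card F ^ k - 1 : ℕ) : ℂ) ≠ 0 := Nat.cast_ne_zero.2 (by omega)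
    refine ⟨(((Nat.card F ^ k - 1 : ℕ) : ℂ))⁻¹ • ∑ c ∈ Finset.univ.filter (fun c : ZMod M => TorZ (Nat.card F : ℤ) M k c),
      rv (Nat.card F : ℤ) M k c, Submodule.smul_mem _ _ (Submodule.sum_mem _ fun c _ => Hom_rv k c), ?_⟩
    rw [map_smul, map_sum, Finset.sum_congr rfl fun c hc => hrv k c hk hkN (Finset.mem_filter.1 hc).2,
      ← prim_Un ctx hk hkN, smul_smul, inv_mul_cancel₀ h0, one_smul]

theorem exists_Un [NeZero M] (ctx : Ctx F θ N M) (hrv : RealRv F θ N M) {n : ℕ} (hn : n ≤ N) :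
    ∃ x ∈ Hom (Nat.card F : ℤ) M n, piA (F := F) θ M x = comp n (Un F) := by
  induction n using Nat.strong_induction_on with
  | _ n ih =>
    rcases Nat.eq_zero_or_pos n with rfl | hn0
    · exact ⟨1, Hom_one, by rw [map_one, comp_zero_Un]⟩
    · have h1 : ∀ p ∈ Finset.HasAntidiagonal.antidiagonal n, ∃ x ∈ Hom (Nat.card F : ℤ) M n,
          piA (F := F) θ M x = comp p.1 (Un F) * comp p.2 (pw (unB F) (kapF fun h => (h.natDegree : ℂ))) := by
        intro p hp
        have hp' := Finset.HasAntidiagonal.mem_antidiagonal.1 hp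
        rcases Nat.eq_zero_or_pos p.2 with h2 | h2
        · exact ⟨0, Submodule.zero_mem _, by rw [map_zero, h2, prim_Un_zero, mul_zero]⟩
        · obtain ⟨x, hx, hx'⟩ := ih p.1 (by omega) (by omega)
          obtain ⟨y, hy, hy'⟩ := exists_prim ctx hrv (k := p.2) (by omega)
          exact ⟨x * y, hp' ▸ Hom_mul hx hy, by rw [map_mul, hx', hy']⟩
      choose! x hx hx' using h1
      have h0 : (n : ℂ) ≠ 0 := Nat.cast_ne_zero.2 hn0.ne'
      refine ⟨(n : ℂ)⁻¹ • ∑ p ∈ Finset.HasAntidiagonal.antidiagonal n, x p,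
        Submodule.smul_mem _ _ (Submodule.sum_mem _ hx), ?_⟩
      rw [map_smul, map_sum, Finset.sum_congr rfl hx', ← newton_Un, smul_smul, inv_mul_cancel₀ h0, one_smul]

theorem exists_Mob [NeZero M] (ctx : Ctx F θ N M) (hrv : RealRv F θ N M) {n : ℕ} (hn : n ≤ N) :
    ∃ x ∈ Hom (Nat.card F : ℤ) M n, piA (F := F) θ M x = comp n (Mob F) := by
  have := ctx.finF
  induction n using Nat.strong_induction_on with
  | _ n ih =>
    have key := comp_mul n (Un F) (Mob F)
    rw [Un_mul_Mob, comp_one, ← Finset.add_sum_erase _ _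
      (show (0, n) ∈ Finset.HasAntidiagonal.antidiagonal n from Finset.HasAntidiagonal.mem_antidiagonal.2 (zero_add n)),
      comp_zero_Un, one_mul] at key
    have h1 : ∀ p ∈ (Finset.HasAntidiagonal.antidiagonal n).erase (0, n), ∃ x ∈ Hom (Nat.card F : ℤ) M n,
        piA (F := F) θ M x = comp p.1 (Un F) * comp p.2 (Mob F) := by
      intro p hp
      have hp' := Finset.HasAntidiagonal.mem_antidiagonal.1 (Finset.mem_of_mem_erase hp)
      have hp2 : p.2 < n := by
        rcases Nat.lt_or_ge p.2 n with h | h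
        · exact h
        · exfalso
          apply Finset.ne_of_mem_erase hp
          exact Prod.ext (show p.1 = 0 by omega) (show p.2 = n by omega)
      obtain ⟨x, hx, hx'⟩ := exists_Un ctx hrv (n := p.1) (by omega)
      obtain ⟨y, hy, hy'⟩ := ih p.2 hp2 (by omega)
      exact ⟨x * y, hp' ▸ Hom_mul hx hy, by rw [map_mul, hx', hy']⟩
    choose! x hx hx' using h1
    rcases Nat.eq_zero_or_pos n with rfl | hn0
    · refine ⟨1 - ∑ p ∈ (Finset.HasAntidiagonal.antidiagonal 0).erase (0, 0), x p,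
        Submodule.sub_mem _ Hom_one (Submodule.sum_mem _ hx), ?_⟩
      rw [map_sub, map_one, map_sum, Finset.sum_congr rfl hx']
      rw [if_pos rfl] at key
      rw [key]
      ring
    · refine ⟨- ∑ p ∈ (Finset.HasAntidiagonal.antidiagonal n).erase (0, n), x p,
        Submodule.neg_mem _ (Submodule.sum_mem _ hx), ?_⟩
      rw [if_neg hn0.ne'] at key
      rw [map_neg, map_sum, Finset.sum_congr rfl hx', eq_comm, ← add_eq_zero_iff_eq_neg]
      exact key.symm

open Classical in
/-- **(R1)** the function `[T = 1]` on `GL_n(F)` is in the image of the standard model -/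
theorem exists_delta [NeZero M] (ctx : Ctx F θ N M) (hrv : RealRv F θ N M) {n : ℕ} (hn : n ≤ N) :
    ∃ x ∈ Hom (Nat.card F : ℤ) M n, ∀ (V : Type u) [AddCommGroup V] [Module F V] [Finite V] (T : V →ₗ[F] V),
      (piA (F := F) θ M x).fn V T = if Module.finrank F V = n ∧ T = LinearMap.id then 1 else 0 := by
  have := ctx.finF
  have hq : (Nat.card F : ℂ) ≠ 0 := Nat.cast_ne_zero.2 Nat.card_pos.ne'
  obtain ⟨x, hx, hx'⟩ := exists_Mob ctx hrv hn
  refine ⟨(mob (Nat.card F) n)⁻¹ • x, Submodule.smul_mem _ _ hx, fun V _ _ _ T => ?_⟩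
  rw [map_smul, smul_fn, hx', comp_fn]
  by_cases h1 : Module.finrank F V = n
  · by_cases h2 : T = LinearMap.id
    · rw [if_pos h1, if_pos ⟨h1, h2⟩, h2, Mob_id, h1, inv_mul_cancel₀ (mob_ne_zero hq n)]
    · rw [if_pos h1, if_neg fun h => h2 h.2, Mob_ne V h2, mul_zero]
  · rw [if_neg h1, if_neg fun h => h1 h.1, mul_zero]

end delta

end Cfsg.Agent.H941.GLn
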