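import Cfsg.Agent.H941.GLn.Ring
import Cfsg.Agent.H139.Cusp.DegreeOne

/-!
# The inverse of the unipotent family (S4536, R1; helper941)

`Un(V, T) = [T unipotent]`, `Mob(V, T) = [T = 1] (-1)^n q^(n(n-1)/2)`, `Un * Mob = 1`.
-/

set_option autoImplicit false

open Polynomial

namespace Cfsg.Agent.H941.GLn

open Cfsg.Agent.H614.GLn Cfsg.Agent.H614.GLn.Fam Cfsg.Agent.H139.Cusp

universe u v

attribute [local instance] fintypeHom fintypeSub finite_quot

/-! ### the Möbius function of the lattice of subspaces -/

section mobius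

/-- `(-1)^n x^(n(n-1)/2)` -/
noncomputable def mob (x : ℂ) (n : ℕ) : ℂ := (-1) ^ n * x ^ n.choose 2

theorem mob_zero (x : ℂ) : mob x 0 = 1 := by simp [mob]

theorem mob_succ (x : ℂ) (n : ℕ) : mob x (n + 1) = - x ^ n * mob x n := by
  rw [mob, mob, pow_succ, Nat.choose_succ_succ' n 1, Nat.choose_one_right, pow_add]
  ring

theorem mob_ne_zero {x : ℂ} (hx : x ≠ 0) (n : ℕ) : mob x n ≠ 0 :=
  mul_ne_zero (pow_ne_zero _ (by norm_num)) (pow_ne_zero _ hx)

variable (x : ℂ)

/-- partial sums of the Möbius sum -/
theorem sum_mob (hx : ∀ k : ℕ, 1 - x ^ (k + 1) ≠ 0) (n j : ℕ) (hj : j ≤ n + 1) :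
    ∑ k ∈ Finset.range (j + 1), mob x k * (qq x (n + 1) k / qq x k k) = - mob x (j + 1) * (qq x n j / qq x j j) := by
  have hne : ∀ k, qq x k k ≠ 0 := fun k => by
    rw [qq_self']
    exact Finset.prod_ne_zero_iff.2 fun i _ => hx i
  induction j with
  | zero =>
    rw [Finset.sum_range_one, mob_succ, mob_zero]
    simp [qq]
  | succ j ih =>
    have hj' : j ≤ n := by omega
    have h1 := hne j
    have h2 := hne (j + 1)
    rw [Finset.sum_range_succ, ih (by omega), qq_succ' x n j, mob_succ x (j + 1), qq_succ x n j]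
    have h3 : qq x (j + 1) (j + 1) = (1 - x ^ (j + 1)) * qq x j j := qq_succ' x j j
    rw [h3]
    have h4 := hx j
    have h5 : x ^ (n + 1) = x ^ (j + 1) * x ^ (n - j) := by
      rw [← pow_add]
      congr 1
      omega
    rw [h5]
    field_simp
    ring

variable {F : Type u} [Field F]

/-- **the Möbius function of the lattice of subspaces** -/
theorem sum_mob_sub [Finite F] {V : Type v} [AddCommGroup V] [Module F V] [Finite V] (hV : ¬ Subsingleton V) :
    ∑ W : Submodule F V, mob (Nat.card F) (Module.finrank F W) = 0 := by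
  classical
  have hnt : Nontrivial V := not_subsingleton_iff_nontrivial.1 hV
  obtain ⟨n, hn⟩ : ∃ n, Module.finrank F V = n + 1 :=
    Nat.exists_eq_succ_of_ne_zero (Module.finrank_pos (R := F) (M := V)).ne'
  have hq1 : 1 < Nat.card F := Finite.one_lt_card
  have hx : ∀ k : ℕ, 1 - (Nat.card F : ℂ) ^ (k + 1) ≠ 0 := by
    intro k h
    have h1 : ((Nat.card F ^ (k + 1) : ℕ) : ℂ) = ((1 : ℕ) : ℂ) := by
      push_cast
      linear_combination -h
    have h2 := Nat.cast_injective h1
    exact (Nat.one_lt_pow (Nat.succ_ne_zero k) hq1).ne' h2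
  have hne : ∀ k, qq (Nat.card F) k k ≠ 0 := fun k => by
    rw [qq_self']
    exact Finset.prod_ne_zero_iff.2 fun i _ => hx i
  rw [← Finset.sum_fiberwise_of_maps_to (t := Finset.range (n + 2))
      (g := fun W : Submodule F V => Module.finrank F W)
      (fun W _ => Finset.mem_range.2 (by have := Submodule.finrank_le W; omega))]
  have h1 : ∀ k ∈ Finset.range (n + 2), ∑ W ∈ Finset.univ.filter (fun W : Submodule F V => Module.finrank F W = k),
      mob (Nat.card F) (Module.finrank F W) = mob (Nat.card F) k * (qq (Nat.card F) (n + 1) k / qq (Nat.card F) k k) := by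
    intro k hk
    have hk' := Finset.mem_range.1 hk
    rw [Finset.sum_congr rfl fun W hW => by rw [(Finset.mem_filter.1 hW).2], Finset.sum_const, nsmul_eq_mul]
    have h2 : ((Finset.univ.filter (fun W : Submodule F V => Module.finrank F W = k)).card : ℂ) =
        Nat.card {W : Submodule F V // Module.finrank F W = k} := by
      rw [Nat.card_eq_fintype_card, Fintype.card_subtype]
    rw [h2, ← card_subspaces hn (by omega : k ≤ n + 1)]
    have := hne k
    field_simp
  rw [Finset.sum_congr rfl h1, sum_mob (Nat.card F) hx n (n + 1) le_rfl, qq_self]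
  simp

end mobius

/-! ### the families -/

section families

variable (F : Type u) [Field F]

open Classical in
/-- `[h is a power of X - 1]` -/
noncomputable def unB (h : F[X]) : ℂ := if h = (X - 1) ^ h.natDegree then 1 else 0

variable {F}

theorem monic_X_sub_one : (X - 1 : F[X]).Monic := by
  rw [← C_1]
  exact monic_X_sub_C 1

theorem natDegree_X_sub_one : (X - 1 : F[X]).natDegree = 1 := by
  rw [← C_1]
  exact natDegree_X_sub_C 1

theorem unB_pow (k : ℕ) : unB F ((X - 1) ^ k) = 1 := by
  classical
  rw [unB, if_pos]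
  rw [(monic_X_sub_one (F := F)).natDegree_pow, natDegree_X_sub_one, mul_one]

theorem irreducible_X_sub_one : Irreducible (X - 1 : F[X]) := by
  rw [← C_1]
  exact irreducible_X_sub_C 1

theorem unB_eq_one_iff {h : F[X]} : unB F h = 1 ↔ ∃ k, h = (X - 1) ^ k := by
  classical
  constructor
  · intro h1
    by_contra h2
    rw [unB, if_neg (fun h3 => h2 ⟨_, h3⟩)] at h1
    exact zero_ne_one h1
  · rintro ⟨k, rfl⟩
    exact unB_pow k

theorem unB_eq_zero {h : F[X]} (h' : ¬ ∃ k, h = (X - 1) ^ k) : unB F h = 0 := by
  classical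
  rw [unB, if_neg (fun h3 => h' ⟨_, h3⟩)]

theorem mlt_unB : Mlt (unB F) := by
  refine ⟨by simpa using unB_pow (F := F) 0, fun p q hp hq => ?_⟩
  by_cases h : ∃ k, p * q = (X - 1) ^ k
  · obtain ⟨k, hk⟩ := h
    have hpr : Prime (X - 1 : F[X]) := irreducible_X_sub_one.prime
    obtain ⟨i, hi, hi'⟩ := (dvd_prime_pow hpr k).1 (Dvd.intro _ hk)
    obtain ⟨j, hj, hj'⟩ := (dvd_prime_pow hpr k).1 (Dvd.intro_left _ hk)
    have e1 : p = (X - 1) ^ i := eq_of_monic_of_associated hp (monic_X_sub_one.pow i) hi'
    have e2 : q = (X - 1) ^ j := eq_of_monic_of_associated hq (monic_X_sub_one.pow j) hj'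
    rw [hk, e1, e2, unB_pow, unB_pow, unB_pow, one_mul]
  · rw [unB_eq_zero h]
    by_cases h1 : ∃ k, p = (X - 1) ^ k
    · obtain ⟨i, rfl⟩ := h1
      rw [unB_eq_zero (h := q), mul_zero]
      rintro ⟨j, rfl⟩
      exact h ⟨i + j, (pow_add _ _ _).symm⟩
    · rw [unB_eq_zero h1, zero_mul]

variable (F)

open Classical in
/-- `[T = 1] (-1)^n q^(n(n-1)/2)` -/
noncomputable def Mob : Fam F where
  fn V _ _ T := if Finite V ∧ T = LinearMap.id then mob (Nat.card F) (Module.finrank F V) else 0
  conj' := by
    intro V V' _ _ _ _ e T T' h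
    have h1 : Finite V' ↔ Finite V := ⟨fun _ => Finite.of_equiv V' e.symm.toEquiv, fun _ => Finite.of_equiv V e.toEquiv⟩
    have h2 : T' = LinearMap.id ↔ T = LinearMap.id := by
      constructor
      · intro h2
        apply LinearMap.ext
        intro v
        apply e.injective
        rw [← h, h2]
        rfl
      · intro h2
        apply LinearMap.ext
        intro v
        obtain ⟨v, rfl⟩ := e.surjective v
        rw [h, h2]
        rfl
    simp only [h1, h2, e.finrank_eq]
  fin' T h := if_neg fun h' => h h'.1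

/-- `[T unipotent]` -/
noncomputable def Un : Fam F := grp (unB F)

variable {F}

theorem Mob_id (V : Type u) [AddCommGroup V] [Module F V] [h : Finite V] :
    (Mob F).fn V LinearMap.id = mob (Nat.card F) (Module.finrank F V) := if_pos ⟨h, rfl⟩

theorem Mob_ne (V : Type u) [AddCommGroup V] [Module F V] {T : V →ₗ[F] V} (h : T ≠ LinearMap.id) :
    (Mob F).fn V T = 0 := if_neg fun h' => h h'.2

theorem charpoly_id' (V : Type u) [AddCommGroup V] [Module F V] [Finite V] :
    (LinearMap.id : V →ₗ[F] V).charpoly = (X - 1) ^ Module.finrank F V := LinearMap.charpoly_one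

/-- **`Un * Mob = 1`** -/
theorem Un_mul_Mob [Finite F] : Un F * Mob F = 1 := by
  classical
  refine Fam.ext' fun V _ _ _ T => ?_
  let K : Submodule F V := LinearMap.ker (T - LinearMap.id)
  have hK : ∀ v, v ∈ K ↔ T v = v := fun v => by
    rw [LinearMap.mem_ker, LinearMap.sub_apply, LinearMap.id_apply, sub_eq_zero]
  have key : ∀ W : Submodule F V, (Un F).term (Mob F) V T W =
      if W ≤ K then unB F T.charpoly * mob (Nat.card F) (Module.finrank F W) else 0 := by
    intro W
    by_cases hWK : W ≤ K
    · have hW : W ≤ W.comap T := fun w hw => by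
        rw [Submodule.mem_comap, (hK w).1 (hWK hw)]
        exact hw
      have h1 : T.restrict hW = LinearMap.id := by
        apply LinearMap.ext
        intro w
        apply Subtype.ext
        exact (hK w).1 (hWK w.2)
      rw [if_pos hWK, term_of hW, Un, grp_fn, h1, Mob_id, charpoly_eq_mul W T hW, h1, charpoly_id',
        mlt_unB.2 _ _ (monic_X_sub_one.pow _) (LinearMap.charpoly_monic _), unB_pow, one_mul]
    · rw [if_neg hWK]
      by_cases hW : W ≤ W.comap T
      · rw [term_of hW, Mob_ne, mul_zero]
        intro h1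
        apply hWK
        intro w hw
        rw [hK]
        exact congrArg Subtype.val (LinearMap.congr_fun h1 ⟨w, hw⟩)
      · exact term_of_not hW
  rw [mul_fn', Finset.sum_congr rfl fun W _ => key W, ← Finset.sum_filter, ← Finset.mul_sum]
  have h2 : ∑ W ∈ Finset.univ.filter (fun W : Submodule F V => W ≤ K), mob (Nat.card F) (Module.finrank F W) =
      ∑ Y : Submodule F K, mob (Nat.card F) (Module.finrank F Y) := by
    symm
    refine Finset.sum_nbij' (fun Y => Y.map K.subtype) (fun W => W.comap K.subtype) ?_ ?_ ?_ ?_ ?_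
    · intro Y _
      exact Finset.mem_filter.2 ⟨Finset.mem_univ _, Submodule.map_subtype_le K Y⟩
    · intro W _
      exact Finset.mem_univ _
    · intro Y _
      exact Submodule.comap_map_eq_of_injective K.injective_subtype Y
    · intro W hW
      rw [Submodule.map_comap_subtype]
      exact inf_eq_right.2 (Finset.mem_filter.1 hW).2
    · intro Y _
      rw [(Submodule.equivMapOfInjective K.subtype K.injective_subtype Y).finrank_eq]
  rw [h2]
  by_cases hV : Subsingleton V
  · rw [one_fn]
    have h3 : T.charpoly = 1 := by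
      rw [← (LinearMap.charpoly_monic T).natDegree_eq_zero, LinearMap.charpoly_natDegree,
        Module.finrank_zero_of_subsingleton]
    have h4 : (Finset.univ : Finset (Submodule F K)) = {⊥} := by
      ext Y
      simp only [Finset.mem_univ, Finset.mem_singleton, true_iff]
      exact Subsingleton.elim _ _
    rw [h3, mlt_unB.1, one_mul, h4, Finset.sum_singleton, finrank_bot, mob_zero]
  · rw [one_fn' V hV]
    by_cases hu : ∃ k, T.charpoly = (X - 1) ^ k
    · have hKn : ¬ Subsingleton K := by
        intro hs
        obtain ⟨k, hk⟩ := hu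
        have hk0 : k ≠ 0 := by
          rintro rfl
          rw [pow_zero] at hk
          have h5 := LinearMap.charpoly_natDegree T
          rw [hk, natDegree_one] at h5
          exact hV (Module.finrank_zero_iff.1 h5.symm)
        have h6 : Module.End.HasEigenvalue T 1 := by
          rw [Module.End.hasEigenvalue_iff_isRoot_charpoly, hk, IsRoot.def]
          simp [hk0]
        obtain ⟨v, hv⟩ := h6.exists_hasEigenvector
        have h7 : T v = v := by
          have := hv.apply_eq_smul
          rwa [one_smul] at this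
        apply hv.2
        exact congrArg Subtype.val (Subsingleton.elim (⟨v, (hK v).2 h7⟩ : K) 0)
      rw [sum_mob_sub hKn, mul_zero]
    · rw [unB_eq_zero hu, zero_mul]

end families

end Cfsg.Agent.H941.GLn
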